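import Groth.Agent.RedPts26.PosGrp
import Groth.Agent.RedPts82.GaNoTorus
import Groth.Agent.RedPts82.RelDim
import Groth.Agent.RedPts82.SubGrp
import Groth.Agent.RedPts82.SplitCochar

/-!
The subgroup directly spanned by the root groups of a closed set of roots without opposite roots.
-/

universe u

open CategoryTheory MonoidalCategory CartesianMonoidalCategory MonObj GrpObj AlgebraicGeometry
open CategoryTheory.Limits
open Groth.Agent.RedPts82 Groth.Agent.RedPts26

namespace Groth.Agent.RedPts26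

variable {S : Scheme.{u}} {G : Over S} [GrpObj G]

theorem exists_iso_of_points {A U : Over S} (f : A ⟶ G) (v : U ⟶ G) [Mono v]
    (h0 : ∀ (X : Over S) (x x' : X ⟶ A), x ≫ f = x' ≫ f → x = x')
    (h1 : ∀ (X : Over S) (x : X ⟶ A), ∃ w : X ⟶ U, w ≫ v = x ≫ f)
    (h2 : ∀ (X : Over S) (w : X ⟶ U), ∃ x : X ⟶ A, x ≫ f = w ≫ v) :
    ∃ ψ : A ≅ U, ψ.hom ≫ v = f := by
  obtain ⟨a, ha⟩ := h1 A (𝟙 A)
  obtain ⟨b, hb⟩ := h2 U (𝟙 U)
  rw [Category.id_comp] at ha hb
  refine ⟨⟨a, b, h0 A _ _ ?_, ?_⟩, ha⟩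
  · rw [Category.assoc, hb, ha, Category.id_comp]
  · rw [← cancel_mono v, Category.assoc, ha, hb, Category.id_comp]

theorem exists_ordEnum (D : Red.SplitRed G) [LinearOrder D.M] [IsOrderedAddMonoid D.M] :
    ∃ (N : ℕ) (e : Fin N → D.idx), OrdEnum D e := by
  classical
  let s : Finset D.M := ((Finset.univ : Finset D.idx).filter fun a => 0 < D.P.root a).image D.P.root
  let o := s.orderEmbOfFin rfl
  have ho : ∀ k, ∃ a : D.idx, 0 < D.P.root a ∧ D.P.root a = o k := fun k => by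
    obtain ⟨a, ha, he⟩ := Finset.mem_image.mp (s.orderEmbOfFin_mem rfl k)
    exact ⟨a, (Finset.mem_filter.mp ha).2, he⟩
  choose e hpos he using ho
  refine ⟨_, e, ⟨fun i j h => o.injective (by rw [← he i, ← he j, h]), fun a => ⟨?_, fun ha => ?_⟩,
    fun i j h => by simpa only [he] using o.strictMono h⟩⟩
  · rintro ⟨k, rfl⟩; exact hpos k
  · have hm : D.P.root a ∈ (s : Set D.M) := Finset.mem_image_of_mem _ (by simpa using ha)
    rw [← Finset.range_orderEmbOfFin s rfl] at hm
    obtain ⟨k, hk⟩ := hm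
    exact ⟨k, D.P.root.injective ((he k).trans hk)⟩

/-- The powers of the additive group have connected geometric fibres. -/
theorem connected_bc_pow {K : Type u} [Field K] (g : Spec (CommRingCat.of K) ⟶ S) (m : ℕ) :
    ConnectedSpace (Red.bc g (RedSub.pow (Red.Ga S) m)).left := by
  let Y : Over S := Over.mk g
  have : IsAffine Y.left := inferInstanceAs (IsAffine (Spec (CommRingCat.of K)))
  let σ : Γ(Y.left, ⊤) ≃+* K := (Scheme.ΓSpecIso (CommRingCat.of K)).commRingCatIsoToRingEquiv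
  have : IsDomain (Gam Y) := σ.toMulEquiv.isDomain
  have : ConnectedSpace (polyMv Y m).left :=
    inferInstanceAs (ConnectedSpace (PrimeSpectrum (MvPolynomial (Fin m) (Gam Y))))
  let E : (polyMv Y m).left ≅ (Red.bc g (RedSub.pow (Red.Ga S) m)).left :=
    (Over.forget S).mapIso (mvIso Y m) ≪≫ pullbackSymmetry g (RedSub.pow (Red.Ga S) m).hom
  let eh := Scheme.homeoOfIso E
  exact eh.surjective.connectedSpace eh.continuous

variable {D : Red.SplitRed G} [LinearOrder D.M] [IsOrderedAddMonoid D.M] {N : ℕ} {e : Fin N → D.idx}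
  (H : OrdEnum D e)
include H

theorem coordFn_comp {X Z : Over S} (w : Z ⟶ X) (k : Fin N) {v : X ⟶ G} (hv : v ∈ tailGrp H 0 X) :
    coordFn (e := e) k (w ≫ v) = w.left.appTop (coordFn (e := e) k v) := by
  obtain ⟨x, -, rfl⟩ := hv
  rw [comp_uProd, coordFn_uProd H, coordFn_uProd H, gaFn_comp]

/-- A group all whose points lie in the positive root groups contains no torus in its fibres. -/
theorem hasNoSubtorus_bc {U : Over S} [GrpObj U] (v : U ⟶ G) [IsMonHom v] [Mono v]
    (hU : ∀ (X : Over S) (x : X ⟶ U), x ≫ v ∈ tailGrp H 0 X)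
    {K : Type u} [Field K] (g : Spec (CommRingCat.of K) ⟶ S) : Red.HasNoSubtorus K (Red.bc g U) := by
  intro T _ j _ _ hT
  let y := toBase g j ≫ v
  have key : ∀ i, i ≤ N → y ∈ tailGrp H i _ := by
    intro i hi
    induction i with
    | zero => exact hU _ _
    | succ i ih =>
      let k : Fin N := ⟨i, by omega⟩
      have hy : y ∈ tailGrp H k _ := ih (by omega)
      let φ : T ⟶ Red.Ga (Spec (CommRingCat.of K)) := gaPt (X := T) (coordFn (e := e) k y)
      have hφ : ∀ {Z : Over (Spec (CommRingCat.of K))} (a : Z ⟶ T),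
          Red.gaFn (a ≫ φ) = coordFn (e := e) k (toBase g (a ≫ j) ≫ v) ∧
            toBase g (a ≫ j) ≫ v ∈ tailGrp H k _ := fun {Z} a => by
        have e1 : toBase g (a ≫ j) ≫ v = (Over.map g).map a ≫ y := by
          rw [toBase_comp, Category.assoc]
        obtain ⟨x, hx, hxy⟩ := hy
        refine ⟨?_, ?_⟩
        · rw [e1, coordFn_comp H _ k (hU _ _), gaFn_comp, gaFn_gaPt]
          rfl
        · rw [e1, ← hxy, comp_uProd]
          exact ⟨_, fun l hl => by rw [hx l hl, comp_gaPt, map_zero], rfl⟩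
      have hm : IsMonHom φ := isMonHom_of_points φ fun Z a b => gaFn_injective (by
        rw [gaFn_mul, (hφ (a * b)).1, (hφ a).1, (hφ b).1, MonObj.mul_comp a b j, toBase_mul,
          MonObj.mul_comp]
        exact (coordFilt H _).add k _ _ (hφ a).2 (hφ b).2)
      have h0 : coordFn (e := e) k y = (0 : Γ(T.left, ⊤)) := by
        have := congrArg (fun r => Red.gaFn r) (torus_hom_Ga_eq_one hT φ)
        simpa only [φ, gaFn_gaPt, gaFn_one] using this
      exact ((coordFilt H _).mem_succ k y hy).mpr h0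
  have hy1 : y = 1 := by
    have := key N le_rfl
    rwa [show tailGrp H N _ = ⊥ from (coordFilt H _).bot, Subgroup.mem_bot] at this
  have hone : toBase g (1 : T ⟶ Red.bc g U) = 1 := by
    have := toBase_mul g (1 : T ⟶ Red.bc g U) 1
    rw [_root_.one_mul (1 : T ⟶ Red.bc g U)] at this
    exact left_eq_mul.mp this
  have h1 : j = 1 := toBase_injective g (by
    rw [hone, ← cancel_mono v, MonObj.one_comp]
    exact hy1)
  have hid : 𝟙 T = 1 := by
    rw [← cancel_mono j, MonObj.one_comp j, Category.id_comp, h1]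
  refine ⟨η[T].left, ?_, Over.w η[T]⟩
  have := congrArg CommaMorphism.left hid
  rw [Hom.one_def] at this
  exact this.symm

/-- The closed subgroup of a closed set of positive roots. -/
theorem exists_closed_subgroup (Ψ : Set D.idx) (hcl : IsClosedSet D Ψ)
    (hpos : ∀ a ∈ Ψ, 0 < D.P.root a) :
    ∃ (U : Over S) (_ : GrpObj U) (v : U ⟶ G), IsMonHom v ∧ Mono v ∧ IsClosedImmersion v.left ∧
      Smooth U.hom ∧ (∃ m, Nonempty (RedSub.pow (Red.Ga S) m ≅ U)) ∧
      ∀ (X : Over S) (g : X ⟶ G), g ∈ suppGrp H Ψ hcl X ↔ ∃ x : X ⟶ U, x ≫ v = g := by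
  classical
  let m := Fintype.card Ψ
  let es : Fin m → D.idx := fun k => ((Fintype.equivFin Ψ).symm k).1
  have hes : RedSub.Enumerates Ψ es :=
    ⟨Subtype.val_injective.comp (Equiv.injective _), Set.ext fun a =>
      ⟨fun ⟨k, hk⟩ => hk ▸ ((Fintype.equivFin Ψ).symm k).2,
        fun ha => ⟨Fintype.equivFin Ψ ⟨a, ha⟩, by simp [es]⟩⟩⟩
  let v := RedSub.prodMap (Red.Ga S) m fun k => D.u (es k)
  have hpt : ∀ (X : Over S) (w : X ⟶ RedSub.pow (Red.Ga S) m),
      w ≫ v = uProd D es fun k => w ≫ powProj (Red.Ga S) m k := fun X w => by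
    rw [← uProd_eq]
    congr 1
    exact powProj_ext fun k => by rw [powTuple_proj]
  have hiff : ∀ (X : Over S) (g : X ⟶ G), g ∈ suppGrp H Ψ hcl X ↔
      ∃ x : X ⟶ RedSub.pow (Red.Ga S) m, x ≫ v = g := by
    intro X g
    obtain ⟨-, hin, hsurj⟩ := enum_bijective H Ψ hcl hpos es hes X
    constructor
    · intro hg
      obtain ⟨x, hx⟩ := hsurj g hg
      exact ⟨powTuple x, (uProd_eq es x).trans hx⟩
    · rintro ⟨x, rfl⟩
      rw [hpt]
      exact hin _
  obtain ⟨l, hl, -, hsign⟩ := H.exists_data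
  have hW := splitRed_weighted D l es (cochar D l) (fun k => (l (D.P.root (es k))).toNat)
    (fun a c h => hes.1 (hl (by
      have h1 := (hsign (es a)).mpr (hpos _ (hes.2 ▸ Set.mem_range_self a))
      have h2 := (hsign (es c)).mpr (hpos _ (hes.2 ▸ Set.mem_range_self c))
      simp only at h ⊢
      omega)))
    (fun k => by
      have := (hsign (es k)).mpr (hpos _ (hes.2 ▸ Set.mem_range_self k))
      omega)
    (fun k X t x => by
      rw [cochar_conj]
      congr 3
      rw [← dsFn_gm_zpow,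
        Int.toNat_of_nonneg ((hsign (es k)).mpr (hpos _ (hes.2 ▸ Set.mem_range_self k))).le])
  have hci : IsClosedImmersion v.left := hW.isClosedImmersion D.reductive.1
  have hv : Mono v := Over.mono_of_mono_left _
  obtain ⟨hgrp, hhom⟩ := exists_grpObj_mono v (fun X => (hiff X 1).mp (one_mem _))
    (fun X a b => (hiff X _).mp (mul_mem ((hiff X _).mpr ⟨a, rfl⟩) ((hiff X _).mpr ⟨b, rfl⟩)))
    (fun X a => (hiff X _).mp (inv_mem ((hiff X _).mpr ⟨a, rfl⟩)))
  have := relDim_pow (relDim_ga (S := S)) m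
  exact ⟨_, hgrp, v, hhom, hv, hci, SmoothOfRelativeDimension.smooth m _, ⟨m, ⟨Iso.refl _⟩⟩, hiff⟩

/-- Every enumeration parametrises a subgroup with the given points. -/
theorem exists_param (Ψ : Set D.idx) (hcl : IsClosedSet D Ψ) (hpos : ∀ a ∈ Ψ, 0 < D.P.root a)
    {U : Over S} (v : U ⟶ G) [Mono v]
    (hU : ∀ (X : Over S) (g : X ⟶ G), g ∈ suppGrp H Ψ hcl X ↔ ∃ x : X ⟶ U, x ≫ v = g)
    {m : ℕ} (e' : Fin m → D.idx) (he' : RedSub.Enumerates Ψ e') :
    ∃ ψ : RedSub.pow (Red.Ga S) m ≅ U, ψ.hom ≫ v = RedSub.prodMap (Red.Ga S) m fun k => D.u (e' k) := by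
  have hpt : ∀ (X : Over S) (w : X ⟶ RedSub.pow (Red.Ga S) m),
      w ≫ RedSub.prodMap (Red.Ga S) m (fun k => D.u (e' k)) =
        uProd D e' fun k => w ≫ powProj (Red.Ga S) m k := fun X w => by
    rw [← uProd_eq]
    congr 1
    exact powProj_ext fun k => by rw [powTuple_proj]
  refine exists_iso_of_points _ v (fun X x x' h => ?_) (fun X x => ?_) (fun X w => ?_)
  · rw [hpt, hpt] at h
    exact powProj_ext fun k => congrFun ((enum_bijective H Ψ hcl hpos e' he' X).1 _ _ h) k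
  · exact (hU X _).mp (by rw [hpt]; exact (enum_bijective H Ψ hcl hpos e' he' X).2.1 _)
  · obtain ⟨x, hx⟩ := (enum_bijective H Ψ hcl hpos e' he' X).2.2 _ ((hU X _).mpr ⟨w, rfl⟩)
    exact ⟨powTuple x, (uProd_eq e' x).trans hx⟩

theorem suppGrp_conj_torus (Ψ : Set D.idx) (hcl : IsClosedSet D Ψ) {X : Over S} (t : X ⟶ D.T)
    {g : X ⟶ G} (hg : g ∈ suppGrp H Ψ hcl X) :
    (t ≫ D.i) * g * (t ≫ D.i)⁻¹ ∈ suppGrp H Ψ hcl X := by
  obtain ⟨x, hx, rfl⟩ := hg
  classical
  choose y hy using fun k => (D.rootHom (e k)).2.2 X t (x k)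
  refine ⟨fun k => if e k ∈ Ψ then y k else gaPt 0, fun k hk => if_neg hk, ?_⟩
  rw [uProd, uProd, conj_list_prod]
  congr 2
  funext k
  by_cases hk : e k ∈ Ψ
  · rw [if_pos hk]; exact (hy k).1
  · rw [if_neg hk, rootHom_gaPt_zero, hx k hk, rootHom_gaPt_zero, _root_.mul_one, mul_inv_cancel]

end Groth.Agent.RedPts26
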