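import Mathlib.LinearAlgebra.RootSystem.Finite.Lemmas
import Mathlib.Algebra.Group.Subsemigroup.Basic
import Mathlib.Algebra.Order.Monoid.Prod
import Mathlib.Data.Prod.Lex
import Mathlib.Algebra.Order.Group.PiLex
import Mathlib.LinearAlgebra.FreeModule.Finite.Basic
import Mathlib.Algebra.Order.Field.Basic
import Mathlib.Data.Finset.Max

/-!
A closed set of roots without opposite roots generates a semigroup avoiding zero, hence is positive
for an integral functional; group orderings refining a functional.
-/

namespace Groth.Agent.RedPts26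

section Gordan

variable {M : Type} [AddCommGroup M]

theorem exists_functional_pos_of_ne_zero [Module.Free ℤ M] {v : M} (hv : v ≠ 0) :
    ∃ l : M →+ ℤ, 0 < l v := by
  let b := Module.Free.chooseBasis ℤ M
  have : b.repr v ≠ 0 := fun h => hv (b.repr.injective (by rw [h, map_zero]))
  obtain ⟨j, hj⟩ := Finsupp.ne_iff.mp this
  let c : M →+ ℤ := ((Finsupp.lapply j).comp b.repr.toLinearMap).toAddMonoidHom
  rcases lt_or_gt_of_ne hj with h | h
  · exact ⟨-c, by simpa [c] using h⟩
  · exact ⟨c, by simpa [c] using h⟩

theorem nsmul_mem_closure {F : Set M} {v : M} (hv : v ∈ F) {a : ℕ} (ha : a ≠ 0) :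
    a • v ∈ AddSubsemigroup.closure F := by
  induction a with
  | zero => exact absurd rfl ha
  | succ a ih =>
    by_cases h : a = 0
    · subst h; rw [zero_add, one_nsmul]; exact AddSubsemigroup.subset_closure hv
    · rw [succ_nsmul]
      exact AddSubsemigroup.add_mem _ (ih h) (AddSubsemigroup.subset_closure hv)

/-- A finite set generating a semigroup without zero has a positive functional. -/
theorem exists_functional_pos [Module.Free ℤ M] (F : Finset M)
    (hF : (0 : M) ∉ AddSubsemigroup.closure (F : Set M)) :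
    ∃ l : M →+ ℤ, ∀ v ∈ F, 0 < l v := by
  classical
  induction hn : F.card using Nat.strong_induction_on generalizing F with
  | _ n ih =>
    rcases F.eq_empty_or_nonempty with rfl | ⟨v, hv⟩
    · exact ⟨0, by simp⟩
    let F' := F.erase v
    have hcard : F'.card < n := hn ▸ Finset.card_erase_lt_of_mem hv
    have hF' : (0 : M) ∉ AddSubsemigroup.closure (F' : Set M) := fun h =>
      hF (AddSubsemigroup.closure_mono (Finset.coe_subset.mpr (Finset.erase_subset v F)) h)
    obtain ⟨l', hl'⟩ := ih _ hcard F' hF' rfl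
    have hv0 : v ≠ 0 := fun h => hF (h ▸ AddSubsemigroup.subset_closure hv)
    have finish : ∀ l : M →+ ℤ, 0 < l v → (∀ f ∈ F', 0 < l f) → ∃ l : M →+ ℤ, ∀ v ∈ F, 0 < l v :=
      fun l h1 h2 => ⟨l, fun x hx => by
        by_cases hxv : x = v
        · exact hxv ▸ h1
        · exact h2 x (Finset.mem_erase.mpr ⟨hxv, hx⟩)⟩
    rcases lt_trichotomy (l' v) 0 with hneg | hz | hpos
    · rcases F'.eq_empty_or_nonempty with he | hne
      · obtain ⟨l, hl⟩ := exists_functional_pos_of_ne_zero hv0
        exact finish l hl fun f hf => absurd hf (by rw [he]; simp)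
      let F'' := F'.image fun f => (l' f).toNat • v + (-l' v).toNat • f
      have hF'' : (0 : M) ∉ AddSubsemigroup.closure (F'' : Set M) := fun h0 => by
        refine hF ((AddSubsemigroup.closure_le).mpr ?_ h0)
        intro w hw
        obtain ⟨f, hf, rfl⟩ := Finset.mem_image.mp hw
        have h1 : 0 < (l' f).toNat := by have := hl' f hf; omega
        have h2 : 0 < (-l' v).toNat := by omega
        exact AddSubsemigroup.add_mem _ (nsmul_mem_closure hv h1.ne')
          (nsmul_mem_closure (Finset.mem_of_mem_erase hf) h2.ne')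
      obtain ⟨m, hm⟩ := ih _ (lt_of_le_of_lt Finset.card_image_le hcard) F'' hF'' rfl
      have hm' : ∀ f ∈ F', 0 < l' f * m v + (-l' v) * m f := fun f hf => by
        have := hm _ (Finset.mem_image_of_mem _ hf)
        rw [map_add, map_nsmul, map_nsmul, nsmul_eq_mul, nsmul_eq_mul,
          Int.toNat_of_nonneg (hl' f hf).le, Int.toNat_of_nonneg (by omega)] at this
        exact this
      obtain ⟨g, hg, hmax⟩ := F'.exists_max_image (fun f => -(m f : ℚ) / l' f) hne
      let A : ℤ := 2 * l' g * (-l' v)
      let B : ℤ := m v * l' g + (-m g) * (-l' v)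
      refine finish (A • m + B • l') ?_ fun f hf => ?_
      · simp only [AddMonoidHom.add_apply, AddMonoidHom.smul_apply, smul_eq_mul, A, B]
        have := hm' g hg
        nlinarith [mul_pos (show 0 < -l' v by omega) this]
      · simp only [AddMonoidHom.add_apply, AddMonoidHom.smul_apply, smul_eq_mul, A, B]
        have hgf : -m f * l' g ≤ -m g * l' f := by
          have := hmax f hf
          rw [div_le_div_iff₀ (by exact_mod_cast hl' f hf) (by exact_mod_cast hl' g hg)] at this
          exact_mod_cast this
        have := hm' g hg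
        nlinarith [mul_pos (hl' f hf) this, mul_le_mul_of_nonneg_left hgf (show 0 ≤ -l' v by omega)]
    · obtain ⟨m, hm⟩ := exists_functional_pos_of_ne_zero hv0
      obtain ⟨N, hN⟩ : ∃ N : ℕ, ∀ f ∈ F', -(m f) < (N : ℤ) := by
        refine ⟨(F'.sup fun f => (-(m f)).toNat) + 1, fun f hf => ?_⟩
        have := Finset.le_sup (f := fun f => (-(m f)).toNat) hf
        omega
      refine finish (m + (N : ℤ) • l') (by simpa [hz] using hm) fun f hf => ?_
      simp only [AddMonoidHom.add_apply, AddMonoidHom.smul_apply, smul_eq_mul]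
      have := hl' f hf
      nlinarith [hN f hf]
    · exact finish l' hpos hl'

end Gordan

section Closed

variable {idx M N : Type} [AddCommGroup M] [AddCommGroup N] (P : RootPairing idx ℤ M N)
  [Finite idx] {Ψ : Set idx}

theorem exists_pos_of_sum_coroot (c : idx) (L : List idx)
    (h : 0 < P.toLinearMap (L.map P.root).sum (P.coroot c)) :
    ∃ b ∈ L, 0 < P.pairingIn ℤ b c := by
  induction L with
  | nil => simp at h
  | cons a L ih =>
    rw [List.map_cons, List.sum_cons, map_add, LinearMap.add_apply, P.root_coroot_eq_pairing] at h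
    by_cases ha : 0 < P.pairingIn ℤ a c
    · exact ⟨a, List.mem_cons_self, ha⟩
    · have e : P.pairingIn ℤ a c = P.pairing a c := by simpa using P.algebraMap_pairingIn ℤ a c
      obtain ⟨b, hb, hb'⟩ := ih (by omega)
      exact ⟨b, List.mem_cons_of_mem a hb, hb'⟩

/-- A sum of roots of a closed set which is a root belongs to the set. -/
theorem mem_of_sum_eq_root (hcl : ∀ a b c : idx, a ∈ Ψ → b ∈ Ψ → P.root a + P.root b = P.root c → c ∈ Ψ)
    (L : List idx) (hL : ∀ a ∈ L, a ∈ Ψ) (c : idx) (hc : (L.map P.root).sum = P.root c) : c ∈ Ψ := by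
  classical
  induction hn : L.length generalizing L c with
  | zero =>
    rw [List.length_eq_zero_iff] at hn
    subst hn
    exact absurd hc.symm (P.ne_zero c)
  | succ n ih =>
    obtain ⟨b, hb, hb'⟩ := exists_pos_of_sum_coroot P c L (by
      rw [hc, P.root_coroot_two]; omega)
    by_cases hbc : b = c
    · exact hbc ▸ hL b hb
    obtain ⟨d, hd⟩ := P.root_sub_root_mem_of_pairingIn_pos hb' hbc
    have hperm : (L.map P.root).sum = P.root b + ((L.erase b).map P.root).sum := by
      rw [((List.perm_cons_erase hb).map P.root).sum_eq, List.map_cons, List.sum_cons]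
    obtain ⟨e, he⟩ : ∃ e, P.root e = -P.root d :=
      ⟨P.reflectionPerm d d, by rw [RootPairing.root_reflectionPerm, RootPairing.reflection_apply_self]⟩
    have hsum : ((L.erase b).map P.root).sum = P.root e := by
      rw [he, hd, neg_sub, ← hc, hperm, add_sub_cancel_left]
    have he' : e ∈ Ψ := ih (L.erase b) (fun a ha => hL a (List.mem_of_mem_erase ha)) e hsum
      (by rw [List.length_erase_of_mem hb, hn]; omega)
    exact hcl b e c (hL b hb) he' (by rw [he, hd]; abel)

/-- No non-empty sum of roots of a closed set without opposite roots vanishes. -/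
theorem sum_ne_zero (hcl : ∀ a b c : idx, a ∈ Ψ → b ∈ Ψ → P.root a + P.root b = P.root c → c ∈ Ψ)
    (hneg : ∀ a b : idx, a ∈ Ψ → P.root b = -P.root a → b ∉ Ψ)
    (L : List idx) (hL : ∀ a ∈ L, a ∈ Ψ) (hne : L ≠ []) : (L.map P.root).sum ≠ 0 := by
  intro h0
  obtain ⟨a, L', rfl⟩ := List.exists_cons_of_ne_nil hne
  rw [List.map_cons, List.sum_cons] at h0
  obtain ⟨e, he⟩ : ∃ e, P.root e = -P.root a :=
    ⟨P.reflectionPerm a a, by rw [RootPairing.root_reflectionPerm, RootPairing.reflection_apply_self]⟩
  have hsum : (L'.map P.root).sum = P.root e := by rw [he]; exact eq_neg_of_add_eq_zero_right h0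
  exact hneg a e (hL a List.mem_cons_self) he
    (mem_of_sum_eq_root P hcl L' (fun x hx => hL x (List.mem_cons_of_mem a hx)) e hsum)

theorem exists_functional_pos_closed [Module.Free ℤ M]
    (hcl : ∀ a b c : idx, a ∈ Ψ → b ∈ Ψ → P.root a + P.root b = P.root c → c ∈ Ψ)
    (hneg : ∀ a b : idx, a ∈ Ψ → P.root b = -P.root a → b ∉ Ψ) :
    ∃ l : M →+ ℤ, ∀ a ∈ Ψ, 0 < l (P.root a) := by
  classical
  have : Fintype idx := Fintype.ofFinite idx
  let F : Finset M := (Finset.univ.filter (· ∈ Ψ)).image P.root
  have hF : (0 : M) ∉ AddSubsemigroup.closure (F : Set M) := by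
    have key : ∀ x ∈ AddSubsemigroup.closure (F : Set M),
        ∃ L : List idx, (∀ a ∈ L, a ∈ Ψ) ∧ L ≠ [] ∧ (L.map P.root).sum = x := by
      intro x hx
      induction hx using AddSubsemigroup.closure_induction with
      | mem x hx =>
        obtain ⟨a, ha, rfl⟩ := Finset.mem_image.mp hx
        exact ⟨[a], by simpa using ha, by simp, by simp⟩
      | add x y _ _ hx hy =>
        obtain ⟨L, h1, h2, rfl⟩ := hx
        obtain ⟨L', h1', -, rfl⟩ := hy
        exact ⟨L ++ L', fun a ha => (List.mem_append.mp ha).elim (h1 a) (h1' a), by simp [h2], by simp⟩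
    intro h0
    obtain ⟨L, h1, h2, h3⟩ := key 0 h0
    exact sum_ne_zero P hcl hneg L h1 h2 h3
  obtain ⟨l, hl⟩ := exists_functional_pos F hF
  exact ⟨l, fun a ha => hl _ (Finset.mem_image_of_mem _ (by simpa using ha))⟩

end Closed

/-- A group ordering refining a functional. -/
theorem exists_order {M : Type} [AddCommGroup M] [Module.Free ℤ M] [Module.Finite ℤ M] (l : M →+ ℤ) :
    ∃ (o : LinearOrder M), @IsOrderedAddMonoid M _ o.toPreorder ∧
      ∀ x y : M, l x < l y → o.lt x y := by
  let b := Module.finBasis ℤ M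
  let φ : M → ℤ ×ₗ Lex (Fin (Module.finrank ℤ M) → ℤ) := fun x => toLex (l x, toLex (b.equivFun x))
  have hφ : Function.Injective φ := fun x y h => by
    have := congrArg (fun z => (ofLex (ofLex z).2)) h
    simpa [φ] using this
  let o : LinearOrder M := LinearOrder.lift' φ hφ
  refine ⟨o, ?_, fun x y h => ?_⟩
  · have hadd : ∀ x y, φ (x + y) = φ x + φ y := fun x y => by simp [φ]; rfl
    exact
      { add_le_add_left := fun x y h z => by
          show φ _ ≤ φ _
          rw [hadd, hadd]
          exact add_le_add h le_rfl }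
  · show φ x < φ y
    exact Prod.Lex.toLex_lt_toLex.mpr (Or.inl h)

end Groth.Agent.RedPts26
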