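import Mathlib.Algebra.Group.Subgroup.Lattice
import Mathlib.Algebra.BigOperators.Group.List.Basic
import Mathlib.Data.Fintype.Basic
import Mathlib.Algebra.Group.Submonoid.BigOperators
import Mathlib.Tactic.Group

/-!
Coordinates on a group with a filtration whose successive quotients are one coordinate each: ordered
products of sections, in any order, give bijective parametrisations.
-/

namespace Groth.Agent.RedPts26

universe v w

/-- A filtration with one additive coordinate on each step. -/
structure CoordFilt (Γ : Type v) [Group Γ] (A : Type w) [AddCommGroup A] (N : ℕ) where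
  T : ℕ → Subgroup Γ
  c : Fin N → Γ → A
  bot : T N = ⊥
  anti : ∀ i, T (i + 1) ≤ T i
  mem_succ : ∀ (i : Fin N) v, v ∈ T i → (v ∈ T ((i : ℕ) + 1) ↔ c i v = 0)
  add : ∀ (i : Fin N) v w, v ∈ T i → w ∈ T i → c i (v * w) = c i v + c i w
  conj : ∀ (i : Fin N) h v, h ∈ T 0 → v ∈ T i → h * v * h⁻¹ ∈ T i ∧ c i (h * v * h⁻¹) = c i v

variable {Γ : Type v} [Group Γ] {A : Type w} [AddCommGroup A] {N : ℕ}

namespace CoordFilt

variable (F : CoordFilt Γ A N)

theorem le (F : CoordFilt Γ A N) {i j : ℕ} (h : i ≤ j) : F.T j ≤ F.T i := by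
  induction h with
  | refl => exact le_rfl
  | step _ ih => exact (F.anti _).trans ih

/-- The ordered product of sections along a list. -/
def lprod (g : Fin N → A → Γ) (L : List (Fin N)) (x : Fin N → A) : Γ :=
  (L.map fun j => g j (x j)).prod

theorem lprod_congr {g g' : Fin N → A → Γ} {L : List (Fin N)} {x x' : Fin N → A}
    (h : ∀ j ∈ L, g j (x j) = g' j (x' j)) : lprod g L x = lprod g' L x' := by
  rw [lprod, lprod, List.map_congr_left h]

theorem lprod_append (g : Fin N → A → Γ) (L L' : List (Fin N)) (x : Fin N → A) :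
    lprod g (L ++ L') x = lprod g L x * lprod g L' x := by simp [lprod]

theorem lprod_cons (g : Fin N → A → Γ) (i : Fin N) (L : List (Fin N)) (x : Fin N → A) :
    lprod g (i :: L) x = g i (x i) * lprod g L x := by simp [lprod]

theorem lprod_conj (g : Fin N → A → Γ) (L : List (Fin N)) (x : Fin N → A) (h : Γ) :
    h⁻¹ * lprod g L x * h = lprod (fun j b => h⁻¹ * g j b * h) L x := by
  induction L with
  | nil => simp [lprod]
  | cons a L ih => rw [lprod_cons, lprod_cons, ← ih]; group

theorem lprod_mem {g : Fin N → A → Γ} {L : List (Fin N)} {x : Fin N → A} {H : Subgroup Γ}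
    (h : ∀ j ∈ L, g j (x j) ∈ H) : lprod g L x ∈ H := by
  refine list_prod_mem fun y hy => ?_
  obtain ⟨j, hj, rfl⟩ := List.mem_map.mp hy
  exact h j hj

/-- Sections of the coordinates in a subgroup give a bijection in any order. -/
theorem lprod_bijective_aux (K : Subgroup Γ) (J : Set (Fin N))
    (hK : ∀ (i : Fin N) v, v ∈ K → v ∈ F.T i → i ∉ J → F.c i v = 0) :
    ∀ d i, N ≤ i + d → ∀ (g : Fin N → A → Γ),
      (∀ j ∈ J, i ≤ (j : ℕ) → ∀ a, g j a ∈ K ∧ g j a ∈ F.T j ∧ F.c j (g j a) = a) →
      ∀ L : List (Fin N), L.Nodup → (∀ j, j ∈ L ↔ j ∈ J ∧ i ≤ (j : ℕ)) →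
        (∀ x x', lprod g L x = lprod g L x' → ∀ j ∈ L, x j = x' j) ∧
        ∀ v, v ∈ K → v ∈ F.T i → ∃ x, lprod g L x = v := by
  intro d
  induction d with
  | zero =>
    intro i hi g _ L _ hL
    have hnil : L = [] := List.eq_nil_iff_forall_not_mem.mpr fun j hj => by
      have := ((hL j).mp hj).2
      omega
    subst hnil
    refine ⟨fun x x' _ j hj => absurd hj List.not_mem_nil, fun v _ hv => ⟨fun _ => 0, ?_⟩⟩
    have := F.le (show N ≤ i by omega) hv
    rw [F.bot, Subgroup.mem_bot] at this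
    rw [this]; rfl
  | succ d ih =>
    intro i hi g hg L hnd hL
    by_cases hiN : N ≤ i + d
    · exact ih i hiN g hg L hnd hL
    let k : Fin N := ⟨i, by omega⟩
    by_cases hk : k ∈ J
    · have hkL : k ∈ L := (hL k).mpr ⟨hk, le_rfl⟩
      obtain ⟨L₁, L₂, rfl⟩ := List.append_of_mem hkL
      rw [List.nodup_append] at hnd
      obtain ⟨hnd₁, hnd₂, hdisj⟩ := hnd
      rw [List.nodup_cons] at hnd₂
      have hk₁ : k ∉ L₁ := fun h => hdisj k h k List.mem_cons_self rfl
      have hmem : ∀ j, j ∈ L₁ ++ L₂ ↔ j ∈ J ∧ i + 1 ≤ (j : ℕ) := by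
        intro j
        rw [List.mem_append]
        constructor
        · intro hj
          have hne : j ≠ k := by
            rintro rfl
            exact hj.elim hk₁ hnd₂.1
          obtain ⟨h1, h2⟩ := (hL j).mp (by
            rw [List.mem_append]; exact hj.imp_right (List.mem_cons_of_mem _))
          have : (j : ℕ) ≠ i := fun h => hne (Fin.ext h)
          exact ⟨h1, by omega⟩
        · rintro ⟨h1, h2⟩
          have := (hL j).mpr ⟨h1, by omega⟩
          rw [List.mem_append, List.mem_cons] at this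
          rcases this with h | rfl | h
          · exact Or.inl h
          · exact absurd h2 (by simp [k])
          · exact Or.inr h
      have hnd' : (L₁ ++ L₂).Nodup :=
        List.nodup_append.mpr ⟨hnd₁, hnd₂.2, fun a ha b hb => hdisj a ha b (List.mem_cons_of_mem _ hb)⟩
      obtain hgk := hg k hk le_rfl
      classical
      let g' : A → Fin N → A → Γ := fun a j b =>
        if j ∈ L₁ then (g k a)⁻¹ * g j b * g k a else g j b
      have hg' : ∀ a, ∀ j ∈ J, i + 1 ≤ (j : ℕ) → ∀ b,
          g' a j b ∈ K ∧ g' a j b ∈ F.T j ∧ F.c j (g' a j b) = b := by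
        intro a j hj hij b
        obtain ⟨h1, h2, h3⟩ := hg j hj (by omega) b
        simp only [g']
        split_ifs with hj1
        · have hc := F.conj j (g k a)⁻¹ (g j b) (inv_mem (F.le (Nat.zero_le _) (hgk a).2.1)) h2
          rw [inv_inv] at hc
          exact ⟨mul_mem (mul_mem (inv_mem (hgk a).1) h1) (hgk a).1, hc.1, hc.2.trans h3⟩
        · exact ⟨h1, h2, h3⟩
      have hIH := fun a => ih (i + 1) (by omega) (g' a) (hg' a) (L₁ ++ L₂) hnd' hmem
      have hsplit : ∀ x, lprod g (L₁ ++ k :: L₂) x =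
          g k (x k) * lprod (g' (x k)) (L₁ ++ L₂) x := by
        intro x
        have e1 : lprod (g' (x k)) L₁ x = (g k (x k))⁻¹ * lprod g L₁ x * g k (x k) := by
          rw [lprod_conj]
          exact lprod_congr fun j hj => if_pos hj
        have e2 : lprod (g' (x k)) L₂ x = lprod g L₂ x :=
          lprod_congr fun j hj => if_neg fun hj1 => hdisj j hj1 j (List.mem_cons_of_mem _ hj) rfl
        rw [lprod_append, lprod_append, lprod_cons, e1, e2]
        group
      have hrest : ∀ a x, lprod (g' a) (L₁ ++ L₂) x ∈ F.T (i + 1) := fun a x =>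
        lprod_mem fun j hj => F.le ((hmem j).mp hj).2 (hg' a j ((hmem j).mp hj).1 ((hmem j).mp hj).2 _).2.1
      have hck : ∀ a x, F.c k (g k a * lprod (g' a) (L₁ ++ L₂) x) = a := fun a x => by
        rw [F.add k _ _ (hgk a).2.1 (F.anti _ (hrest a x)), (hgk a).2.2,
          (F.mem_succ k _ (F.anti _ (hrest a x))).mp (hrest a x), add_zero]
      refine ⟨fun x x' h => ?_, fun v hvK hv => ?_⟩
      · rw [hsplit, hsplit] at h
        have e : x k = x' k := by rw [← hck (x k) x, h, hck]
        rw [e] at h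
        have h' := (hIH (x' k)).1 x x' (mul_left_cancel h)
        intro j hj
        rw [List.mem_append, List.mem_cons] at hj
        rcases hj with hj | rfl | hj
        · exact h' j (List.mem_append_left _ hj)
        · exact e
        · exact h' j (List.mem_append_right _ hj)
      · let a := F.c k v
        have hrv : (g k a)⁻¹ * v ∈ F.T k := mul_mem (inv_mem (hgk a).2.1) hv
        have hr0 : F.c k ((g k a)⁻¹ * v) = 0 := by
          have := F.add k (g k a) ((g k a)⁻¹ * v) (hgk a).2.1 hrv
          rw [mul_inv_cancel_left, (hgk a).2.2] at this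
          exact left_eq_add.mp this
        obtain ⟨x, hx⟩ := (hIH a).2 _ (mul_mem (inv_mem (hgk a).1) hvK) ((F.mem_succ k _ hrv).mpr hr0)
        refine ⟨Function.update x k a, ?_⟩
        rw [hsplit, Function.update_self]
        have : lprod (g' a) (L₁ ++ L₂) (Function.update x k a) = lprod (g' a) (L₁ ++ L₂) x :=
          lprod_congr fun j hj => by
            rw [Function.update_of_ne]
            rintro rfl
            exact absurd ((hmem k).mp hj).2 (by simp [k])
        rw [this, hx, mul_inv_cancel_left]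
    · have hmem : ∀ j, j ∈ L ↔ j ∈ J ∧ i + 1 ≤ (j : ℕ) := fun j => by
        rw [hL]
        refine ⟨fun ⟨h1, h2⟩ => ⟨h1, ?_⟩, fun ⟨h1, h2⟩ => ⟨h1, by omega⟩⟩
        have : (j : ℕ) ≠ i := fun h => hk ((Fin.ext h : j = k) ▸ h1)
        omega
      have hIH := ih (i + 1) (by omega) g (fun j hj hij => hg j hj (by omega)) L hnd hmem
      exact ⟨hIH.1, fun v hvK hv =>
        hIH.2 v hvK ((F.mem_succ k v hv).mpr (hK k v hvK hv hk))⟩

theorem lprod_bijective (K : Subgroup Γ) (J : Set (Fin N))
    (hK : ∀ (i : Fin N) v, v ∈ K → v ∈ F.T i → i ∉ J → F.c i v = 0)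
    (hK0 : K ≤ F.T 0) {g : Fin N → A → Γ}
    (hg : ∀ j ∈ J, ∀ a, g j a ∈ K ∧ g j a ∈ F.T j ∧ F.c j (g j a) = a)
    {L : List (Fin N)} (hnd : L.Nodup) (hL : ∀ j, j ∈ L ↔ j ∈ J) :
    (∀ x x', lprod g L x = lprod g L x' → ∀ j ∈ L, x j = x' j) ∧
      ∀ v, v ∈ K → ∃ x, lprod g L x = v := by
  have h := lprod_bijective_aux F K J hK N 0 (by omega) g (fun j hj _ => hg j hj) L hnd
    (fun j => by simp [hL j])
  exact ⟨h.1, fun v hv => h.2 v hv (hK0 hv)⟩

end CoordFilt

end Groth.Agent.RedPts26
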