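import Groth.Agent.RedPts26.StringGen
import Groth.Agent.RedPts26.Functional
import Groth.Agent.RedPts82.IsoPinned
import Groth.Agent.RedPts82.PinnedChev
import Groth.Agent.RedPts82.ChevPairs

/-!
A subgroup scheme containing the root groups of the simple roots contains those of all positive
roots.
-/

universe u

open CategoryTheory MonoidalCategory CartesianMonoidalCategory MonObj GrpObj AlgebraicGeometry
open Groth.Agent.RedPts82

namespace Groth.Agent.RedPts26

variable {S : Scheme.{u}} {G H : Over S} [GrpObj G] [GrpObj H] (h : H ⟶ G) [IsMonHom h]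

/-- The points of a group which factor through a homomorphism into it. -/
def imgPts (X : Over S) : Subgroup (X ⟶ G) where
  carrier := {z | ∃ w : X ⟶ H, w ≫ h = z}
  one_mem' := ⟨1, MonObj.one_comp h⟩
  mul_mem' := by
    rintro _ _ ⟨w, rfl⟩ ⟨w', rfl⟩
    exact ⟨w * w', MonObj.mul_comp w w' h⟩
  inv_mem' := by
    rintro _ ⟨w, rfl⟩
    exact ⟨w⁻¹, GrpObj.inv_comp w h⟩

/-- A root homomorphism factors through a subgroup. -/
def RootMem (D : Red.SplitRed G) (c : D.idx) : Prop := ∃ v : Red.Ga S ⟶ H, v ≫ h = D.u c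

variable {h} {D : Red.SplitRed G}

theorem RootMem.pt {c : D.idx} (m : RootMem h D c) {X : Over S} (x : Γ(X.left, ⊤)) :
    gaPt x ≫ D.u c ∈ imgPts h X := by
  obtain ⟨v, hv⟩ := m
  exact ⟨gaPt x ≫ v, by rw [Category.assoc, hv]⟩

/-- A root homomorphism factors through a subgroup scheme once it does on affines with a section
avoiding `0`, `1` and `-1`. -/
theorem rootMem_of_cover [Mono h] {c : D.idx}
    (hc : ∀ (Z : Over S) [IsAffine Z.left] (r : Γ(Z.left, ⊤)), IsUnit (r * (r - 1) * (r + 1)) →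
      ∀ x : Γ(Z.left, ⊤), gaPt x ≫ D.u c ∈ imgPts h Z) : RootMem h D c := by
  refine exists_factor_of_affine h (D.u c) fun Y hY k => ?_
  classical
  obtain ⟨Z, k', r, hZ, hf, hs, hr⟩ := exists_avoid Y
    (Polynomial.X * (Polynomial.X - 1) * (Polynomial.X + 1)) fun K _ _ W _ e y => by
    obtain ⟨b, hb⟩ := Infinite.exists_notMem_finset ({0, 1, -1} : Finset K)
    simp only [Finset.mem_insert, Finset.mem_singleton, not_or] at hb
    refine ⟨e b, ?_⟩
    rw [Polynomial.eval₂_mul, Polynomial.eval₂_mul, Polynomial.eval₂_sub, Polynomial.eval₂_add,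
      Polynomial.eval₂_X, Polynomial.eval₂_one, ← map_one e, ← map_sub, ← map_add, ← map_mul, ← map_mul]
    refine (Ne.isUnit ?_).map e
    exact mul_ne_zero (mul_ne_zero hb.1 (sub_ne_zero.mpr hb.2.1))
      (fun h0 => hb.2.2 (eq_neg_of_add_eq_zero_left h0))
  rw [Polynomial.eval₂_mul, Polynomial.eval₂_mul, Polynomial.eval₂_sub, Polynomial.eval₂_add,
    Polynomial.eval₂_X, Polynomial.eval₂_one] at hr
  have : IsAffine Y.left := hY
  obtain ⟨w, hw⟩ := hc Z r hr (Red.gaFn (k' ≫ k))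
  rw [gaPt_gaFn, Category.assoc] at hw
  have : QuasiCompact k'.left := inferInstance
  exact exists_factor_of_cover h (k ≫ D.u c) k' w hw

omit [GrpObj H] [IsMonHom h] in
/-- Root points commute when no combination of the two roots with positive coefficients is a root. -/
theorem commute_of_none {α β : D.idx} (hi : Indep D.P α β)
    (hall : ∀ (c : D.idx) (p q : ℕ), 1 ≤ p → 1 ≤ q →
      D.P.root c ≠ (p : ℤ) • D.P.root α + (q : ℤ) • D.P.root β) {X : Over S} (x y : Γ(X.left, ⊤)) :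
    Commute (gaPt x ≫ D.u α) (gaPt y ≫ D.u β) := by
  obtain ⟨C, F⟩ := exists_formula (S := S) hi ![] ![] ![] (fun k => k.elim0) (fun k => k.elim0)
    fun c p q hp hq e => absurd e (hall c p q hp hq)
  have e := F.2.2 X x y
  rw [List.ofFn_zero, List.prod_nil, _root_.mul_one] at e
  exact mul_inv_eq_iff_eq_mul.mp e

theorem indep_comb {idx M N : Type} [AddCommGroup M] [AddCommGroup N] [Fintype idx]
    {P : RootPairing idx ℤ M N} {a g c d : idx} (hi : Indep P a g) {p q p' q' : ℤ}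
    (hc : P.root c = p • P.root a + q • P.root g) (hd : P.root d = p' • P.root a + q' • P.root g)
    (hne : p * q' - p' * q ≠ 0) : Indep P c d := by
  refine indep_of_forall P fun r s e => ?_
  rw [hc, hd] at e
  obtain ⟨h1, h2⟩ := hi.coeff_eq (p := r * p + s * p') (q := r * q + s * q') (p' := 0) (q' := 0)
    (by rw [zero_smul, zero_smul, add_zero, ← e]; module)
  have hr : r * (p * q' - p' * q) = 0 := by linear_combination q' * h1 - p' * h2
  have hs : s * (p * q' - p' * q) = 0 := by linear_combination p * h2 - q * h1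
  exact ⟨(mul_eq_zero.mp hr).resolve_right hne, (mul_eq_zero.mp hs).resolve_right hne⟩

theorem isUnit_of_isSgn {r : Γ(S, ⊤)} {j : ℕ} {k : ℤ} (hr : IsSgn ((-1) ^ j * r) k) (hk : k = 1) :
    IsUnit r := by
  obtain ⟨s, hs, rfl⟩ := hr.of_neg_pow
  subst hk
  rcases hs with rfl | rfl <;> simp

variable [Mono h] {vd : D.idx → (Red.Ga S ⟶ G)} (KC : Chev D vd) {a g : D.idx}
  (hi : Indep D.P a g) (hb : D.P.root g - D.P.root a ∉ Set.range D.P.root)
  (ma : RootMem h D a) (mg : RootMem h D g) (hag : D.P.pairing a g = -1)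
include KC hi hb ma mg hag

theorem string_one {c : D.idx} (hga : D.P.pairing g a = -1)
    (hc : D.P.root c = D.P.root a + D.P.root g) : RootMem h D c := by
  obtain ⟨s, t, h1, h2, h3⟩ := hi.string
  have hs : s = 0 := by
    by_contra hne
    exact hb (by convert (h3 (-1)).mpr ⟨by omega, by omega⟩ using 1; module)
  obtain ⟨C, F, hC⟩ := table_q_one KC hi (by rw [hag, hga]) hc
    (fun hh => by have := (h3 2).mp hh; omega) 1 le_rfl
    (fun k hk => ⟨g, by obtain rfl : k = 0 := (by omega); simp⟩) (by simpa using hb)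
  have hu : IsUnit (C 0) := isUnit_of_isSgn hC Nat.cast_one
  refine rootMem_of_cover fun Z _ r _ x => ?_
  obtain ⟨u, hu'⟩ := hu.map (f := Z.hom.appTop.hom)
  have e := F.2.2 Z (((u⁻¹ : Γ(Z.left, ⊤)ˣ) : Γ(Z.left, ⊤)) * x) 1
  simp only [List.ofFn_succ, List.ofFn_zero, List.prod_cons, List.prod_nil, Matrix.cons_val_zero,
    _root_.mul_one, pow_one] at e
  rw [show cst Z (C 0) = (u : Γ(Z.left, ⊤)) from hu'.symm, Units.mul_inv_cancel_left] at e
  rw [eq_inv_mul_of_mul_eq e.symm]
  exact mul_mem (inv_mem (mg.pt _)) (mul_mem (mul_mem (ma.pt _) (mg.pt _)) (inv_mem (ma.pt _)))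

theorem string_two {c₁ c₂ : D.idx} (hga : D.P.pairing g a = -2)
    (hc₁ : D.P.root c₁ = D.P.root a + D.P.root g)
    (hc₂ : D.P.root c₂ = (2 : ℤ) • D.P.root a + D.P.root g) : RootMem h D c₁ ∧ RootMem h D c₂ := by
  obtain ⟨s, t, h1, h2, h3⟩ := hi.string
  have hs : s = 0 := by
    by_contra hne
    exact hb (by convert (h3 (-1)).mpr ⟨by omega, by omega⟩ using 1; module)
  obtain ⟨r₁, r₂, hr₁, hr₂, hF⟩ := table_one_two KC hi hb hc₁ hc₂
    (fun hh => by have := (h3 3).mp hh; omega)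
  have u₁ : IsUnit r₁ := isUnit_of_isSgn (j := 0) (by rw [pow_zero, _root_.one_mul]; exact hr₁) rfl
  have u₂ : IsUnit r₂ := isUnit_of_isSgn (j := 0) (by rw [pow_zero, _root_.one_mul]; exact hr₂) rfl
  have hnone : ∀ (c : D.idx) (p q : ℕ), 1 ≤ p → 1 ≤ q →
      D.P.root c ≠ (p : ℤ) • D.P.root c₁ + (q : ℤ) • D.P.root c₂ := fun c p q hp hq e => by
    rw [hc₁, hc₂] at e
    have := hall_B2 hi hga hag c (p := p + 2 * q) (q := p + q) (by omega) (by omega)
      (by rw [e]; push_cast; module)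
    omega
  have hi₁₂ : Indep D.P c₁ c₂ := indep_comb hi (p := 1) (q := 1) (p' := 2) (q' := 1)
    (by rw [hc₁, one_smul, one_smul]) (by rw [hc₂, one_smul]) (by norm_num)
  have main : ∀ (Z : Over S) (x : Γ(Z.left, ⊤)), IsUnit (x * (x - 1) * (x + 1)) →
      ∀ r, gaPt (cst Z r₁ * r) ≫ D.u c₁ ∈ imgPts h Z ∧ gaPt (cst Z r₂ * r) ≫ D.u c₂ ∈ imgPts h Z := by
    intro Z x hx r
    have key := factors_mem (imgPts h Z) (fun r => gaPt (cst Z r₁ * r) ≫ D.u c₁)
      (fun r => gaPt (cst Z r₂ * r) ≫ D.u c₂) (fun _ => 1) (fun _ => 1)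
      (fun p q => by simp only [mul_add, rootHom_gaPt_add])
      (fun p q => by simp only [mul_add, rootHom_gaPt_add])
      (fun p q => (_root_.mul_one 1).symm) (fun _ _ => Commute.one_right _)
      (fun _ _ => Commute.one_right _) (fun _ _ => Commute.one_right _)
      (fun _ _ => Commute.one_right _) (fun _ _ => Commute.one_right _)
      (fun p q => ⟨0, by rw [(commute_of_none hi₁₂ hnone _ _).mul_inv_cancel, _root_.mul_one]⟩)
      1 (one_mem _) (fun _ => Commute.one_left _) (fun _ => Commute.one_left _)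
      (fun _ => Commute.one_left _) 1 isUnit_one (fun _ => by simp) (fun p q => ?_) x hx
    · exact ⟨key.1 r, key.2.1 r⟩
    · simp only [_root_.mul_one]
      have e := hF Z (gaPt p) (gaPt q) (gaPt (cst Z r₁ * (p * q))) (gaPt (cst Z r₂ * (p ^ 2 * q)))
        (by simp only [gaFn_gaPt, _root_.mul_assoc]) (by simp only [gaFn_gaPt, _root_.mul_assoc])
      rw [← e]
      exact mul_mem (mul_mem (mul_mem (mg.pt _) (ma.pt _)) (inv_mem (mg.pt _))) (inv_mem (ma.pt _))
  refine ⟨rootMem_of_cover fun Z _ r hr x => ?_, rootMem_of_cover fun Z _ r hr x => ?_⟩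
  · obtain ⟨u, hu⟩ := u₁.map (f := Z.hom.appTop.hom)
    have := (main Z r hr (((u⁻¹ : Γ(Z.left, ⊤)ˣ) : Γ(Z.left, ⊤)) * x)).1
    rwa [show cst Z r₁ = (u : Γ(Z.left, ⊤)) from hu.symm, Units.mul_inv_cancel_left] at this
  · obtain ⟨u, hu⟩ := u₂.map (f := Z.hom.appTop.hom)
    have := (main Z r hr (((u⁻¹ : Γ(Z.left, ⊤)ˣ) : Γ(Z.left, ⊤)) * x)).2
    rwa [show cst Z r₂ = (u : Γ(Z.left, ⊤)) from hu.symm, Units.mul_inv_cancel_left] at this

theorem string_three {c₁ c₂ c₃ : D.idx} (hga : D.P.pairing g a = -3)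
    (hc₁ : D.P.root c₁ = D.P.root a + D.P.root g)
    (hc₂ : D.P.root c₂ = (2 : ℤ) • D.P.root a + D.P.root g)
    (hc₃ : D.P.root c₃ = (3 : ℤ) • D.P.root a + D.P.root g) :
    RootMem h D c₁ ∧ RootMem h D c₂ ∧ RootMem h D c₃ := by
  have hc₃' : D.P.root c₃ = (3 : ℤ) • D.P.root a + (1 : ℤ) • D.P.root g := by rw [hc₃, one_smul]
  have hcg : D.P.pairing c₃ g = -1 := by
    rw [coroot_pairing_comb hc₃' g, hag, RootPairing.pairing_same]; norm_num
  obtain ⟨c₄, hc₄⟩ : ∃ c₄, D.P.root c₄ = (3 : ℤ) • D.P.root a + (2 : ℤ) • D.P.root g :=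
    ⟨D.P.reflectionPerm g c₃, by
      rw [RootPairing.root_reflectionPerm, RootPairing.reflection_apply_root, hcg, hc₃]; module⟩
  have none' : ∀ (c : D.idx) (p q : ℕ), 1 ≤ p → 1 ≤ q →
      D.P.root c = (p : ℤ) • D.P.root a + (q : ℤ) • D.P.root g →
      (p = 1 ∧ q = 1) ∨ (p = 2 ∧ q = 1) ∨ (p = 3 ∧ q = 1) ∨ (p = 3 ∧ q = 2) :=
    fun c p q hp hq e => hall_G2 hi hga hag c hp hq e
  obtain ⟨C, F, hC⟩ := table_one_three KC hi hb hc₁ hc₂ hc₃ hc₄
  -- the commutator of `g` with the third root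
  have hi₃ : Indep D.P g c₃ := indep_comb hi (p := 0) (q := 1) (p' := 3) (q' := 1)
    (by rw [zero_smul, zero_add, one_smul]) hc₃' (by norm_num)
  have no23 : D.P.root c₃ + (2 : ℤ) • D.P.root g ∉ Set.range D.P.root := by
    rintro ⟨d, hd⟩
    have := none' d 3 3 (by norm_num) (by norm_num) (by rw [hd, hc₃]; push_cast; module)
    omega
  have no32 : D.P.root g + (2 : ℤ) • D.P.root c₃ ∉ Set.range D.P.root := by
    rintro ⟨d, hd⟩
    have := none' d 6 3 (by norm_num) (by norm_num) (by rw [hd, hc₃]; push_cast; module)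
    omega
  have hlen : |D.P.pairing g c₃| ≤ |D.P.pairing c₃ g| := by
    obtain ⟨s', t', h1', h2', h3'⟩ := hi₃.symm.string
    have ht : t' ≤ 1 := by
      by_contra hne
      exact no32 ((h3' 2).mpr ⟨by omega, by omega⟩)
    have hcases := hi₃.pairing_cases
    simp only [Set.mem_insert_iff, Set.mem_singleton_iff, Prod.mk.injEq, hcg] at hcases
    rw [hcg, show D.P.pairing g c₃ = -1 by omega]
  obtain ⟨E, F', hE⟩ := table_q_one KC hi₃ hlen
    (show D.P.root c₄ = D.P.root g + D.P.root c₃ by rw [hc₄, hc₃]; module) no23 1 le_rfl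
    (fun k hk => ⟨c₃, by obtain rfl : k = 0 := (by omega); simp⟩) (by
      rintro ⟨d, hd⟩
      have := root_mult_dvd_two D.P (a := a) (c := d) 3 (by rw [hd, hc₃]; simp)
      norm_num at this)
  have uE : IsUnit (E 0) := isUnit_of_isSgn hE Nat.cast_one
  have uC : ∀ k, IsUnit (C k) := fun k => isUnit_of_isSgn (hC k) rfl
  have hc₁' : D.P.root c₁ = (1 : ℤ) • D.P.root a + (1 : ℤ) • D.P.root g := by
    rw [hc₁, one_smul, one_smul]
  have hc₂' : D.P.root c₂ = (2 : ℤ) • D.P.root a + (1 : ℤ) • D.P.root g := by rw [hc₂, one_smul]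
  have hg' : D.P.root g = (0 : ℤ) • D.P.root a + (1 : ℤ) • D.P.root g := by
    rw [zero_smul, zero_add, one_smul]
  have hcomm : ∀ (c d : D.idx) (p q p' q' : ℕ),
      D.P.root c = (p : ℤ) • D.P.root a + (q : ℤ) • D.P.root g →
      D.P.root d = (p' : ℤ) • D.P.root a + (q' : ℤ) • D.P.root g →
      (p : ℤ) * q' - p' * q ≠ 0 → 1 ≤ p + p' → 1 ≤ q + q' →
      (∀ m n : ℕ, 1 ≤ m → 1 ≤ n → ¬ ((m * p + n * p' = 1 ∧ m * q + n * q' = 1) ∨
        (m * p + n * p' = 2 ∧ m * q + n * q' = 1) ∨ (m * p + n * p' = 3 ∧ m * q + n * q' = 1) ∨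
        (m * p + n * p' = 3 ∧ m * q + n * q' = 2))) →
      ∀ {Z : Over S} (x y : Γ(Z.left, ⊤)), Commute (gaPt x ≫ D.u c) (gaPt y ≫ D.u d) := by
    intro c d p q p' q' hc hd hne hp hq hno Z x y
    refine commute_of_none (indep_comb hi hc hd hne) (fun e m n hm hn he => ?_) x y
    rw [hc, hd] at he
    have h1 := Nat.le_mul_of_pos_left p hm
    have h2 := Nat.le_mul_of_pos_left p' hn
    have h3 := Nat.le_mul_of_pos_left q hm
    have h4 := Nat.le_mul_of_pos_left q' hn
    exact hno m n hm hn (none' e (m * p + n * p') (m * q + n * q') (by omega) (by omega)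
      (by rw [he]; push_cast; module))
  obtain ⟨C12, F12⟩ := exists_formula (S := S)
    (indep_comb hi hc₁' hc₂' (by norm_num) : Indep D.P c₁ c₂) ![c₄] ![1] ![1]
    (fun k k' _ => Subsingleton.elim k k')
    (fun k => by fin_cases k; simp [hc₁, hc₂, hc₄]; module) (fun d p q hp hq e => by
      rw [hc₁, hc₂] at e
      have := none' d (p + 2 * q) (p + q) (by omega) (by omega) (by rw [e]; push_cast; module)
      obtain ⟨rfl, rfl⟩ : p = 1 ∧ q = 1 := by omega
      exact ⟨0, D.P.root.injective (by simp only [Matrix.cons_val_zero]; rw [hc₄, e]; push_cast; module)⟩)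
  have main : ∀ (Z : Over S) (x : Γ(Z.left, ⊤)), IsUnit (x * (x - 1) * (x + 1)) → ∀ r,
      gaPt (cst Z (C 0) * r) ≫ D.u c₁ ∈ imgPts h Z ∧ gaPt (cst Z (C 1) * r) ≫ D.u c₂ ∈ imgPts h Z ∧
        gaPt (cst Z (C 2) * r) ≫ D.u c₃ ∈ imgPts h Z := by
    intro Z x hx r
    obtain ⟨u₃, hu₃⟩ := (uC 3).map (f := Z.hom.appTop.hom)
    have hu₃' : cst Z (C 3) = (u₃ : Γ(Z.left, ⊤)) := hu₃.symm
    have key := factors_mem (imgPts h Z) (fun r => gaPt (cst Z (C 0) * r) ≫ D.u c₁)
      (fun r => gaPt (cst Z (C 1) * r) ≫ D.u c₂) (fun r => gaPt (cst Z (C 2) * r) ≫ D.u c₃)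
      (fun r => gaPt (cst Z (C 3) * r) ≫ D.u c₄)
      (fun p q => by simp only [mul_add, rootHom_gaPt_add])
      (fun p q => by simp only [mul_add, rootHom_gaPt_add])
      (fun p q => by simp only [mul_add, rootHom_gaPt_add])
      (fun p q => hcomm c₁ c₄ 1 1 3 2 (by exact_mod_cast hc₁') (by exact_mod_cast hc₄) (by norm_num)
        (by norm_num) (by norm_num) (fun m n hm hn => by omega) _ _)
      (fun p q => hcomm c₂ c₄ 2 1 3 2 (by exact_mod_cast hc₂') (by exact_mod_cast hc₄) (by norm_num)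
        (by norm_num) (by norm_num) (fun m n hm hn => by omega) _ _)
      (fun p q => hcomm c₃ c₄ 3 1 3 2 (by exact_mod_cast hc₃') (by exact_mod_cast hc₄) (by norm_num)
        (by norm_num) (by norm_num) (fun m n hm hn => by omega) _ _)
      (fun p q => hcomm c₁ c₃ 1 1 3 1 (by exact_mod_cast hc₁') (by exact_mod_cast hc₃') (by norm_num)
        (by norm_num) (by norm_num) (fun m n hm hn => by omega) _ _)
      (fun p q => hcomm c₂ c₃ 2 1 3 1 (by exact_mod_cast hc₂') (by exact_mod_cast hc₃') (by norm_num)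
        (by norm_num) (by norm_num) (fun m n hm hn => by omega) _ _)
      (fun p q => ?_) (gaPt 1 ≫ D.u g) (mg.pt 1)
      (fun p => hcomm g c₁ 0 1 1 1 (by exact_mod_cast hg') (by exact_mod_cast hc₁') (by norm_num)
        (by norm_num) (by norm_num) (fun m n hm hn => by omega) _ _)
      (fun p => hcomm g c₂ 0 1 2 1 (by exact_mod_cast hg') (by exact_mod_cast hc₂') (by norm_num)
        (by norm_num) (by norm_num) (fun m n hm hn => by omega) _ _)
      (fun p => hcomm g c₄ 0 1 3 2 (by exact_mod_cast hg') (by exact_mod_cast hc₄) (by norm_num)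
        (by norm_num) (by norm_num) (fun m n hm hn => by omega) _ _)
      (((u₃⁻¹ : Γ(Z.left, ⊤)ˣ) : Γ(Z.left, ⊤)) * (cst Z (E 0) * cst Z (C 2)))
      ((u₃⁻¹).isUnit.mul ((uE.map Z.hom.appTop.hom).mul ((uC 2).map Z.hom.appTop.hom)))
      (fun p => ?_) (fun p q => ?_) x hx
    · exact ⟨key.1 r, key.2.1 r, key.2.2.1 r⟩
    · have e := F12.2.2 Z (cst Z (C 0) * p) (cst Z (C 1) * q)
      simp only [List.ofFn_succ, List.ofFn_zero, List.prod_cons, List.prod_nil, Matrix.cons_val_zero,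
        _root_.mul_one, pow_one] at e
      exact ⟨((u₃⁻¹ : Γ(Z.left, ⊤)ˣ) : Γ(Z.left, ⊤)) * (cst Z (C12 0) * (cst Z (C 0) * p) * (cst Z (C 1) * q)),
        by rw [hu₃', Units.mul_inv_cancel_left] at *; exact e⟩
    · have e := F'.2.2 Z 1 (cst Z (C 2) * p)
      simp only [List.ofFn_succ, List.ofFn_zero, List.prod_cons, List.prod_nil, Matrix.cons_val_zero,
        _root_.mul_one, pow_one] at e
      rw [e]
      congr 3
      rw [hu₃', ← _root_.mul_assoc _ _ p, ← _root_.mul_assoc (u₃ : Γ(Z.left, ⊤)),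
        Units.mul_inv_cancel_left]
    · have e := F.2.2 Z p q
      simp only [List.ofFn_succ, List.ofFn_zero, List.prod_cons, List.prod_nil, Matrix.cons_val_zero,
        Matrix.cons_val_succ, _root_.mul_one, pow_one, _root_.mul_assoc, Fin.reduceSucc,
        Fin.succ_zero_eq_one, Fin.succ_one_eq_two] at e ⊢
      rw [eq_inv_mul_of_mul_eq e.symm]
      exact mul_mem (inv_mem (mg.pt _)) (mul_mem (ma.pt _) (mul_mem (mg.pt _) (inv_mem (ma.pt _))))
  refine ⟨rootMem_of_cover fun Z _ r hr x => ?_, rootMem_of_cover fun Z _ r hr x => ?_,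
    rootMem_of_cover fun Z _ r hr x => ?_⟩
  · obtain ⟨u, hu⟩ := (uC 0).map (f := Z.hom.appTop.hom)
    have := (main Z r hr (((u⁻¹ : Γ(Z.left, ⊤)ˣ) : Γ(Z.left, ⊤)) * x)).1
    rwa [show cst Z (C 0) = (u : Γ(Z.left, ⊤)) from hu.symm, Units.mul_inv_cancel_left] at this
  · obtain ⟨u, hu⟩ := (uC 1).map (f := Z.hom.appTop.hom)
    have := (main Z r hr (((u⁻¹ : Γ(Z.left, ⊤)ˣ) : Γ(Z.left, ⊤)) * x)).2.1
    rwa [show cst Z (C 1) = (u : Γ(Z.left, ⊤)) from hu.symm, Units.mul_inv_cancel_left] at this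
  · obtain ⟨u, hu⟩ := (uC 2).map (f := Z.hom.appTop.hom)
    have := (main Z r hr (((u⁻¹ : Γ(Z.left, ⊤)ˣ) : Γ(Z.left, ⊤)) * x)).2.2
    rwa [show cst Z (C 2) = (u : Γ(Z.left, ⊤)) from hu.symm, Units.mul_inv_cancel_left] at this

/-- With the roots `a` and `g` at the bottom of a string, the whole string is in the subgroup. -/
theorem rootMem_string {c : D.idx} {i : ℕ} (hi1 : 1 ≤ i) (hc : D.P.root c = D.P.root g + (i : ℤ) • D.P.root a) :
    RootMem h D c := by
  obtain ⟨s, t, h1, h2, h3⟩ := hi.string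
  have hs : s = 0 := by
    by_contra hne
    exact hb (by convert (h3 (-1)).mpr ⟨by omega, by omega⟩ using 1; module)
  have hit : i ≤ t := by have := (h3 i).mp ⟨c, hc⟩; omega
  obtain ⟨c₁, hc₁⟩ := (h3 1).mpr ⟨by omega, by omega⟩
  have e₁ : D.P.root c₁ = D.P.root a + D.P.root g := by rw [hc₁, one_smul, add_comm]
  rcases (show t = 1 ∨ t = 2 ∨ t = 3 by omega) with ht | ht | ht
  · obtain rfl : i = 1 := by omega
    exact string_one KC hi hb ma mg hag (by omega) (by rw [hc]; push_cast; module)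
  · obtain ⟨c₂, hc₂⟩ := (h3 2).mpr ⟨by omega, by omega⟩
    have H2 := string_two KC hi hb ma mg hag (c₁ := c₁) (c₂ := c₂) (by omega) e₁ (by rw [hc₂, add_comm])
    rcases (show i = 1 ∨ i = 2 by omega) with rfl | rfl
    · exact (D.P.root.injective (hc.trans hc₁.symm) : c = c₁) ▸ H2.1
    · exact (D.P.root.injective (hc.trans hc₂.symm) : c = c₂) ▸ H2.2
  · obtain ⟨c₂, hc₂⟩ := (h3 2).mpr ⟨by omega, by omega⟩
    obtain ⟨c₃, hc₃⟩ := (h3 3).mpr ⟨by omega, by omega⟩
    have H3 := string_three KC hi hb ma mg hag (c₁ := c₁) (c₂ := c₂) (c₃ := c₃) (by omega) e₁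
      (by rw [hc₂, add_comm]) (by rw [hc₃, add_comm])
    rcases (show i = 1 ∨ i = 2 ∨ i = 3 by omega) with rfl | rfl | rfl
    · exact (D.P.root.injective (hc.trans hc₁.symm) : c = c₁) ▸ H3.1
    · exact (D.P.root.injective (hc.trans hc₂.symm) : c = c₂) ▸ H3.2.1
    · exact (D.P.root.injective (hc.trans hc₃.symm) : c = c₃) ▸ H3.2.2

omit hi hb ma mg hag

/-- With the simple roots, all positive roots are in the subgroup. -/
theorem rootMem_of_isPos (B : D.P.Base) (hB : ∀ a ∈ B.support, RootMem h D a) {b : D.idx}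
    (hpos : B.IsPos b) : RootMem h D b := by
  have := isReduced_of_base B
  induction hN : (B.height b).natAbs using Nat.strong_induction_on generalizing b with
  | _ N ih =>
    obtain ⟨a, ha, ha'⟩ := hpos.exists_mem_support_pos_pairingIn
    rw [D.P.zero_lt_pairingIn_iff', pairingIn_eq] at ha'
    rcases eq_or_ne b a with rfl | hne
    · exact hB b ha
    have hab : Indep D.P a b := by
      refine RootPairing.IsReduced.linearIndependent D.P hne.symm fun e => ?_
      have e' : b = D.P.reflectionPerm a a :=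
        D.P.root.injective (by rw [Roots36.root_neg, e, neg_neg])
      have := RootPairing.Base.height_one_of_mem_support ha
      have e'' : B.height (D.P.reflectionPerm a a) = -B.height a := B.height_reflectionPerm_self a
      rw [RootPairing.Base.isPos_iff, e', e''] at hpos
      omega
    obtain ⟨s, t, h1, h2, h3⟩ := hab.string
    obtain ⟨g, hg⟩ := (h3 (-(s : ℤ))).mpr ⟨le_rfl, by omega⟩
    have hgpos : B.IsPos g := hpos.add_zsmul hne ha hg
    have hlt : (B.height g).natAbs < N := by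
      have e := B.height_add_zsmul hg
      rw [RootPairing.Base.height_one_of_mem_support ha, smul_eq_mul, _root_.mul_one] at e
      rw [RootPairing.Base.isPos_iff] at hpos hgpos
      omega
    have mg : RootMem h D g := ih _ hlt hgpos rfl
    have hig : Indep D.P a g := comb_indep hab (p := -(s : ℤ)) (q := 1) (by rw [hg]; module) one_ne_zero
    have hbot : D.P.root g - D.P.root a ∉ Set.range D.P.root := fun hh => by
      have := (h3 (-(s : ℤ) - 1)).mp (by convert hh using 1; rw [hg]; module)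
      omega
    have hga : D.P.pairing g a = -((s + t : ℕ) : ℤ) := by
      rw [coroot_pairing_comb (p := -(s : ℤ)) (q := 1) (a := a) (b := b) (by rw [hg]; module) a,
        RootPairing.pairing_same, ← h2]
      push_cast
      ring
    have hcases := hig.pairing_cases
    simp only [Set.mem_insert_iff, Set.mem_singleton_iff, Prod.mk.injEq, hga] at hcases
    by_cases hag : D.P.pairing a g = -1
    · exact rootMem_string KC hig hbot (hB a ha) mg hag (i := s) (by omega) (by rw [hg]; module)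
    · have hs : s = 1 := by omega
      have hga' : D.P.pairing g a = -1 := by omega
      refine rootMem_string KC hig.symm (fun ⟨d, hd⟩ => hbot ⟨D.P.reflectionPerm d d, by
        rw [Roots36.root_neg, hd]; module⟩) mg (hB a ha) hga' (i := 1) le_rfl ?_
      rw [hg, hs]; push_cast; module

omit KC [Mono h]

variable [Mono h]

/-- A subgroup scheme containing the root groups of the simple roots contains those of the
positive roots. -/
theorem rootMem_posRoots (D : Red.SplitRed G) (B : D.P.Base) (hB : ∀ a ∈ B.support, RootMem h D a)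
    {b : D.idx} (hb : b ∈ RedSub.posRoots D.P B) : RootMem h D b := by
  obtain ⟨v, hv, hva, hd⟩ := exists_dual_scaling D B
  obtain ⟨v', hv', hva', hch⟩ := exists_chevSystem (D := replaceU D v hv) B hd
  choose vd hvd using hch
  let E := replaceU (replaceU D v hv) v' hv'
  have KC : Chev E vd := chev_of (replaceU D v hv) v' vd hv' (gaPt 1) (gaFn_gaPt _) _ (fun _ => rfl)
    (fun c => ⟨(hvd c).1, (hvd c).2.1⟩) _ (fun _ => rfl) fun c d => by
      obtain ⟨e, he, H⟩ := (hvd c).2.2 d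
      refine ⟨e, he, fun X x y hxy => ?_⟩
      rw [← gaPt_gaFn x, ← gaPt_gaFn y, hxy]
      have := H X (Red.gaFn x)
      have e1 : toUnit X ≫ gaPt (1 : Γ((𝟙_ (Over S)).left, ⊤)) = gaPt 1 := by rw [comp_gaPt, map_one]
      simp only [MonObj.comp_mul, GrpObj.comp_inv]
      rw [← Category.assoc, ← Category.assoc, e1]
      exact this
  obtain ⟨w, hw⟩ : RootMem h E b := rootMem_of_isPos KC B (fun a ha => by
    obtain ⟨w, hw⟩ := hB a ha
    exact ⟨w, hw.trans (((hva' a ha).trans (hva a ha)).symm)⟩) ((mem_posRoots_iff B b).mp hb)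
  have := (D.rootHom b).1
  obtain ⟨c, hc⟩ := exists_coord_of_weight (D := E) B b (D.u b) fun X t r => by
    have := tpt_conj_rp (D := D) t b r
    exact this
  refine ⟨gaPt (cst (Red.Ga S) c * Red.gaFn (𝟙 (Red.Ga S))) ≫ w, ?_⟩
  rw [Category.assoc, hw]
  have e := hc (Red.Ga S) (Red.gaFn (𝟙 (Red.Ga S)))
  rw [gaPt_gaFn, Category.id_comp] at e
  exact e.symm

end Groth.Agent.RedPts26
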