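import Groth.Agent.RedPts26.ClosedGrp

/-!
The steps of the filtration of the group of a closed set of positive roots by the levels of a
functional.
-/

universe u

open CategoryTheory MonoidalCategory CartesianMonoidalCategory MonObj GrpObj AlgebraicGeometry
open CategoryTheory.Limits
open Groth.Agent.RedPts82 Groth.Agent.RedPts26

namespace Groth.Agent.RedPts26

variable {S : Scheme.{u}} {G : Over S} [GrpObj G] {D : Red.SplitRed G}

theorem uProd_append {X : Over S} {m k : ℕ} (e : Fin m → D.idx) (e' : Fin k → D.idx)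
    (x : Fin m → (X ⟶ Red.Ga S)) (y : Fin k → (X ⟶ Red.Ga S)) :
    uProd D (Fin.append e e') (Fin.append x y) = uProd D e x * uProd D e' y := by
  have h : (fun j => Fin.append x y j ≫ D.u (Fin.append e e' j)) =
      Fin.append (fun j => x j ≫ D.u (e j)) fun j => y j ≫ D.u (e' j) := by
    funext j
    refine Fin.addCases (fun l => ?_) (fun l => ?_) j <;> simp only [Fin.append_left, Fin.append_right]
  rw [uProd, uProd, uProd, h, List.ofFn_fin_append, List.prod_append]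

theorem exists_enum (Ψ : Set D.idx) : ∃ (m : ℕ) (e : Fin m → D.idx), RedSub.Enumerates Ψ e := by
  classical
  exact ⟨_, fun k => ((Fintype.equivFin Ψ).symm k).1,
    Subtype.val_injective.comp (Equiv.injective _), Set.ext fun a =>
      ⟨fun ⟨k, hk⟩ => hk ▸ ((Fintype.equivFin Ψ).symm k).2,
        fun ha => ⟨Fintype.equivFin Ψ ⟨a, ha⟩, by simp⟩⟩⟩

variable [LinearOrder D.M] [IsOrderedAddMonoid D.M] {N : ℕ} {e : Fin N → D.idx} (H : OrdEnum D e)
include H

/-- The points of a subgroup parametrised by the root groups of a closed set. -/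
theorem points_of_param (Ψ : Set D.idx) (hcl : IsClosedSet D Ψ) (hpos : ∀ a ∈ Ψ, 0 < D.P.root a)
    {U : Over S} (v : U ⟶ G)
    (hU : ∀ {m : ℕ} (e' : Fin m → D.idx), RedSub.Enumerates Ψ e' →
      ∃ ψ : RedSub.pow (Red.Ga S) m ≅ U, ψ.hom ≫ v = RedSub.prodMap (Red.Ga S) m fun k => D.u (e' k))
    (X : Over S) (g : X ⟶ G) : g ∈ suppGrp H Ψ hcl X ↔ ∃ x : X ⟶ U, x ≫ v = g := by
  obtain ⟨m, e', he'⟩ := exists_enum (D := D) Ψ
  obtain ⟨ψ, hψ⟩ := hU e' he'
  obtain ⟨-, hin, hsurj⟩ := enum_bijective H Ψ hcl hpos e' he' X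
  constructor
  · intro hg
    obtain ⟨x, hx⟩ := hsurj g hg
    exact ⟨powTuple x ≫ ψ.hom, by rw [Category.assoc, hψ, uProd_eq, hx]⟩
  · rintro ⟨x, rfl⟩
    have h : x ≫ v = uProd D e' fun k => (x ≫ ψ.inv) ≫ powProj (Red.Ga S) m k := by
      rw [← uProd_eq, show powTuple (fun k => (x ≫ ψ.inv) ≫ powProj (Red.Ga S) m k) = x ≫ ψ.inv from
        powProj_ext fun k => by rw [powTuple_proj], ← hψ]
      simp
    rw [h]
    exact hin _

/-- Two root groups of the lowest level commute modulo the higher levels. -/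
theorem comm_coord_eq_zero (lam : D.M →+ ℤ) (hlam : ∀ x y : D.M, lam x < lam y → x < y) {n : ℤ}
    (hn : 0 < n) {i j : Fin N} (hi : lam (D.P.root (e i)) = n) (hj : lam (D.P.root (e j)) = n)
    {X : Over S} (x y : X ⟶ Red.Ga S) :
    ∃ z, uProd D e z =
        (x ≫ D.u (e i)) * (y ≫ D.u (e j)) * (x ≫ D.u (e i))⁻¹ * (y ≫ D.u (e j))⁻¹ ∧
      ∀ k, lam (D.P.root (e k)) ≤ n → z k = gaPt 0 := by
  classical
  obtain ⟨-, ν, hν, hco⟩ := H.exists_coords
  let χ : Fin 2 → D.M := ![D.P.root (e i), D.P.root (e j)]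
  let p : Fin 2 → (RedSub.pow (Red.Ga S) 2 ⟶ Red.Ga S) := powProj (Red.Ga S) 2
  let A := uProd D e (Function.update (fun _ => gaPt 0) i (p 0))
  let B := uProd D e (Function.update (fun _ => gaPt 0) j (p 1))
  have hg : ∀ (Z : Over S) (w : Z ⟶ RedSub.pow (Red.Ga S) 2), w ≫ (A * B * A⁻¹ * B⁻¹) =
      ((w ≫ p 0) ≫ D.u (e i)) * ((w ≫ p 1) ≫ D.u (e j)) * ((w ≫ p 0) ≫ D.u (e i))⁻¹ *
        ((w ≫ p 1) ≫ D.u (e j))⁻¹ := fun Z w => by
    simp only [A, B, uProd_single, MonObj.comp_mul, GrpObj.comp_inv, ← Category.assoc]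
  have hc : Contr ν (A * B * A⁻¹ * B⁻¹) 1 := by
    simpa using (((hν _).mul (hν _)).mul (hν _).inv).mul (hν _).inv
  obtain ⟨q, hq1, hq2⟩ := hco 2 χ _ hc fun Z t w w' hw => by
    have h0 : ((w' ≫ p 0) ≫ D.u (e i)) = torPt D t * ((w ≫ p 0) ≫ D.u (e i)) * (torPt D t)⁻¹ := by
      rw [splitRed_conj]
      congr 1
      exact gaFn_injective (by rw [gaFn_gaPt]; exact hw 0)
    have h1 : ((w' ≫ p 1) ≫ D.u (e j)) = torPt D t * ((w ≫ p 1) ≫ D.u (e j)) * (torPt D t)⁻¹ := by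
      rw [splitRed_conj]
      congr 1
      exact gaFn_injective (by rw [gaFn_gaPt]; exact hw 1)
    rw [hg, hg, h0, h1]
    group
  refine ⟨fun k => powTuple ![x, y] ≫ q k, ?_, fun k hk => ?_⟩
  · rw [hq1, hg]
    simp only [p, powTuple_proj, Matrix.cons_val_zero, Matrix.cons_val_one]
  · have : q k = gaPt 0 := by
      refine coord_eq_zero_cases _ χ _ (hq2 k) fun f hf => ?_
      have hw : lam (Finsupp.weight χ f) = (f 0 : ℤ) * n + (f 1 : ℤ) * n := by
        rw [Finsupp.weight_apply, Finsupp.sum_fintype _ _ (by simp), Fin.sum_univ_two, map_add,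
          map_nsmul, map_nsmul, nsmul_eq_mul, nsmul_eq_mul]
        simp [χ, hi, hj]
      rw [hf] at hw
      have hone : f 0 = 0 ∨ f 1 = 0 := by
        by_contra hcon
        push Not at hcon
        have h1 : (1 : ℤ) ≤ f 0 := by exact_mod_cast Nat.one_le_iff_ne_zero.mpr hcon.1
        have h2 : (1 : ℤ) ≤ f 1 := by exact_mod_cast Nat.one_le_iff_ne_zero.mpr hcon.2
        nlinarith
      have hvan : ∀ l₀ : Fin 2, ∀ (Z : Over S) (w : Z ⟶ RedSub.pow (Red.Ga S) 2),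
          (∀ l ∈ ({l₀} : Set (Fin 2)), Red.gaFn (w ≫ powProj (Red.Ga S) 2 l) = 0) →
            Red.gaFn (w ≫ q k) = 0 := fun l₀ Z w hw => by
        have hz : w ≫ p l₀ = gaPt 0 := gaFn_injective (by rw [gaFn_gaPt]; exact hw l₀ rfl)
        have h := hq1 Z w
        rw [hg] at h
        have h1 : uProd D e (fun k => w ≫ q k) = uProd D e fun _ => gaPt 0 := by
          rw [h, uProd_zero]
          fin_cases l₀
          · simp only [Fin.zero_eta] at hz
            rw [hz, rootHom_gaPt_zero]; group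
          · simp only [Fin.mk_one] at hz
            rw [hz, rootHom_gaPt_zero]; group
        rw [congrFun (H.uProd_injective h1) k, gaFn_gaPt]
      rcases hone with h | h
      · exact ⟨{0}, hvan 0, fun l hl => by rw [Set.mem_singleton_iff] at hl; exact hl ▸ h⟩
      · exact ⟨{1}, hvan 1, fun l hl => by rw [Set.mem_singleton_iff] at hl; exact hl ▸ h⟩
    simp only [this, comp_gaPt, map_zero]

/-- The points of the next level are normal. -/
theorem suppGrp_level_conj (lam : D.M →+ ℤ) (hlam : ∀ x y : D.M, lam x < lam y → x < y) (n : ℤ)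
    (Ψ₁ Ψ₂ : Set D.idx) (hcl₁ : IsClosedSet D Ψ₁) (hcl₂ : IsClosedSet D Ψ₂) (hsub : Ψ₂ ⊆ Ψ₁)
    (hmem : ∀ a, a ∈ Ψ₁ → n < lam (D.P.root a) → a ∈ Ψ₂)
    (hlev : ∀ a ∈ Ψ₂, n < lam (D.P.root a)) {X : Over S} {g h : X ⟶ G}
    (hg : g ∈ suppGrp H Ψ₁ hcl₁ X) (hh : h ∈ suppGrp H Ψ₂ hcl₂ X) :
    g * h * g⁻¹ ∈ suppGrp H Ψ₂ hcl₂ X := by
  classical
  obtain ⟨i₀, hi₀⟩ : ∃ i₀ : ℕ, ∀ k : Fin N, (k : ℕ) < i₀ ↔ lam (D.P.root (e k)) ≤ n := by
    have hex : ∃ i : ℕ, ∀ k : Fin N, i ≤ (k : ℕ) → ¬ lam (D.P.root (e k)) ≤ n :=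
      ⟨N, fun k hk => absurd k.2 (by omega)⟩
    refine ⟨Nat.find hex, fun k => ⟨fun hk => ?_, fun hk => ?_⟩⟩
    · have := Nat.find_min hex hk
      push Not at this
      obtain ⟨j, hkj, hj⟩ := this
      refine le_trans ?_ hj
      by_contra hc
      push Not at hc
      have h1 := hlam _ _ hc
      have h2 := H.mono.monotone (show k ≤ j from hkj)
      exact absurd h1 (not_lt.mpr h2)
    · by_contra hc
      exact Nat.find_spec hex k (not_lt.mp hc) hk
  obtain ⟨y, hy, rfl⟩ := hh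
  have hy₁ : uProd D e y ∈ suppGrp H Ψ₁ hcl₁ X := ⟨y, fun k hk => hy k fun hk' => hk (hsub hk'), rfl⟩
  have hytail : IsTail i₀ y := fun k hk => hy k fun hk' => by
    have := hlev _ hk'
    have := (hi₀ k).mp hk
    omega
  obtain ⟨x, hx, rfl⟩ := hg
  obtain ⟨z, hz, hze, -⟩ := H.tail_conj i₀ x y hytail
  obtain ⟨z', hz', hze'⟩ := mul_mem (mul_mem (show uProd D e x ∈ suppGrp H Ψ₁ hcl₁ X from ⟨x, hx, rfl⟩) hy₁)
    (inv_mem (show uProd D e x ∈ suppGrp H Ψ₁ hcl₁ X from ⟨x, hx, rfl⟩))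
  have hzz : z' = z := H.uProd_injective (hze'.trans hze.symm)
  refine ⟨z, fun k hk => ?_, hze⟩
  by_cases hk1 : e k ∈ Ψ₁
  · refine hz k ((hi₀ k).mpr ?_)
    by_contra hc
    exact hk (hmem _ hk1 (not_le.mp hc))
  · exact hzz ▸ hz' k hk1

end Groth.Agent.RedPts26
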