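import Groth.Agent.RedPts82.OrdRoots
import Groth.Agent.RedPts26.Functional
import Groth.Agent.RedPts26.GrpCoord

/-!
The points of the product of the positive root groups as a group with coordinates, and its subgroup
attached to a closed set of positive roots.
-/

universe u

open CategoryTheory MonoidalCategory CartesianMonoidalCategory MonObj GrpObj AlgebraicGeometry
open CategoryTheory.Limits
open Groth.Agent.RedPts82 Groth.Agent.RedPts26

namespace Groth.Agent.RedPts26

variable {S : Scheme.{u}} {G : Over S} [GrpObj G] {D : Red.SplitRed G}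

/-- A homogeneous function with no monomial of its weight vanishes. -/
theorem coord_eq_zero_cases {M : Type} [AddCommGroup M] {k : ℕ}
    (τ : RedSub.pow (Red.Ga S) k ⟶ Red.Ga S) (χ : Fin k → M) (wt : M)
    (hτ : ∀ (Z : Over S) (t : Z ⟶ Red.DS S M) (w w' : Z ⟶ RedSub.pow (Red.Ga S) k),
      (∀ l, Red.gaFn (w' ≫ powProj (Red.Ga S) k l) =
        dsFn t (χ l) * Red.gaFn (w ≫ powProj (Red.Ga S) k l)) →
      Red.gaFn (w' ≫ τ) = dsFn t wt * Red.gaFn (w ≫ τ))
    (h : ∀ f : Fin k →₀ ℕ, Finsupp.weight χ f = wt → ∃ L : Set (Fin k),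
      (∀ (Z : Over S) (w : Z ⟶ RedSub.pow (Red.Ga S) k),
        (∀ l ∈ L, Red.gaFn (w ≫ powProj (Red.Ga S) k l) = 0) → Red.gaFn (w ≫ τ) = 0) ∧
      ∀ l ∈ L, f l = 0) : τ = gaPt 0 := by
  refine hom_ext_affine fun Y hY w => gaFn_injective ?_
  rw [comp_gaPt, gaFn_gaPt, map_zero]
  obtain ⟨p, hp⟩ := (mvCoordHom_bijective Y k).2 (Red.gaFn (mvTu Y k ≫ τ))
  have hp0 : p = 0 := by
    ext f
    rw [MvPolynomial.coeff_zero]
    by_cases hf : Finsupp.weight χ f = wt
    · obtain ⟨L, hvan, hL⟩ := h f hf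
      exact coeff_eq_zero_of_van τ L hvan Y p hp f hL
    · exact mvCoeff_eq_zero_of_weight τ χ wt hτ Y p hp f hf
  obtain ⟨v, hv1, hv2, -⟩ := exists_mvLift (𝟙 Y) fun l => w ≫ powProj (Red.Ga S) k l
  have e : v ≫ mvTu Y k = w := powProj_ext fun l => by rw [Category.assoc, hv2]
  rw [← e, Category.assoc, gaFn_comp, ← hp, hp0, map_zero, map_zero]

theorem comp_uProd {N : ℕ} (e : Fin N → D.idx) {Z W : Over S} (w : Z ⟶ W)
    (a : Fin N → (W ⟶ Red.Ga S)) : w ≫ uProd D e a = uProd D e fun k => w ≫ a k := by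
  rw [← uProd_eq, ← uProd_eq, ← Category.assoc]
  congr 1
  exact powProj_ext fun k => by rw [Category.assoc, powTuple_proj, powTuple_proj]

/-- Tuples supported on a set of roots. -/
def IsSupp {X : Over S} {N : ℕ} (e : Fin N → D.idx) (Ψ : Set D.idx) (x : Fin N → (X ⟶ Red.Ga S)) : Prop :=
  ∀ k, e k ∉ Ψ → x k = gaPt 0

/-- A closed set of roots. -/
def IsClosedSet (D : Red.SplitRed G) (Ψ : Set D.idx) : Prop :=
  ∀ a b c : D.idx, a ∈ Ψ → b ∈ Ψ → D.P.root a + D.P.root b = D.P.root c → c ∈ Ψ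

theorem weight_mem_closed {Ψ : Set D.idx} (hcl : IsClosedSet D Ψ) {n : ℕ} (χ : Fin n → D.M)
    (hχ : ∀ j, χ j = 0 ∨ ∃ a ∈ Ψ, χ j = D.P.root a) (f : Fin n →₀ ℕ) (c : D.idx)
    (h : Finsupp.weight χ f = D.P.root c) : c ∈ Ψ := by
  have key : ∀ f : Fin n →₀ ℕ, ∃ L : List D.idx, (∀ a ∈ L, a ∈ Ψ) ∧
      (L.map D.P.root).sum = Finsupp.weight χ f := by
    intro f
    induction f using Finsupp.induction with
    | zero => exact ⟨[], by simp, by simp⟩
    | single_add j m f _ _ ih =>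
      obtain ⟨L, h1, h2⟩ := ih
      rcases hχ j with h0 | ⟨a, ha, he⟩
      · exact ⟨L, h1, by rw [map_add, Finsupp.weight_single, h0, smul_zero, zero_add, h2]⟩
      · refine ⟨List.replicate m a ++ L, fun b hb => ?_, ?_⟩
        · rcases List.mem_append.mp hb with hb | hb
          · exact List.eq_of_mem_replicate hb ▸ ha
          · exact h1 b hb
        · rw [map_add, Finsupp.weight_single, List.map_append, List.sum_append, List.map_replicate,
            List.sum_replicate, h2, he]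
  obtain ⟨L, h1, h2⟩ := key f
  exact mem_of_sum_eq_root D.P hcl L h1 c (h2.trans h)

variable [LinearOrder D.M] [IsOrderedAddMonoid D.M] {N : ℕ} {e : Fin N → D.idx} (H : OrdEnum D e)
include H

/-- Equivariant contracted functions of variables with weights in a closed set are supported on it. -/
theorem supp_coords (Ψ : Set D.idx) (hcl : IsClosedSet D Ψ) {ν : Red.Gm S ⟶ G} {n : ℕ}
    (q : Fin N → (RedSub.pow (Red.Ga S) n ⟶ Red.Ga S))
    (g : RedSub.pow (Red.Ga S) n ⟶ G) (_ : Contr ν g 1) (χ : Fin n → D.M)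
    (hχ : ∀ j, χ j = 0 ∨ ∃ a ∈ Ψ, χ j = D.P.root a)
    (hq : ∀ (Z : Over S) (w : Z ⟶ RedSub.pow (Red.Ga S) n), uProd D e (fun k => w ≫ q k) = w ≫ g)
    (hwt : ∀ (k : Fin N) (Z : Over S) (t : Z ⟶ Red.DS S D.M) (w w' : Z ⟶ RedSub.pow (Red.Ga S) n),
      (∀ j, Red.gaFn (w' ≫ powProj (Red.Ga S) n j) =
        dsFn t (χ j) * Red.gaFn (w ≫ powProj (Red.Ga S) n j)) →
      Red.gaFn (w' ≫ q k) = dsFn t (D.P.root (e k)) * Red.gaFn (w ≫ q k))
    (hvan : ∀ (Z : Over S) (w : Z ⟶ RedSub.pow (Red.Ga S) n),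
      (∀ j, χ j ≠ 0 → Red.gaFn (w ≫ powProj (Red.Ga S) n j) = 0) → w ≫ g = 1)
    (k : Fin N) (hk : e k ∉ Ψ) : q k = gaPt 0 := by
  refine coord_eq_zero_cases _ χ _ (hwt k) fun f hf => ⟨{j | χ j ≠ 0}, fun Z w hw => ?_, ?_⟩
  · have h := hq Z w
    rw [hvan Z w fun j hj => hw j hj] at h
    have := congrFun (H.uProd_injective (h.trans (uProd_zero (X := Z) e).symm)) k
    rw [this, gaFn_gaPt]
  · exact absurd (weight_mem_closed hcl χ hχ f _ hf) hk

theorem supp_mul (Ψ : Set D.idx) (hcl : IsClosedSet D Ψ) {X : Over S} (x y : Fin N → (X ⟶ Red.Ga S))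
    (hx : IsSupp e Ψ x) (hy : IsSupp e Ψ y) :
    ∃ z, IsSupp e Ψ z ∧ uProd D e z = uProd D e x * uProd D e y := by
  classical
  obtain ⟨-, ν, hν, hco⟩ := H.exists_coords
  let χ : Fin (N + N) → D.M :=
    Fin.append (fun l => if e l ∈ Ψ then D.P.root (e l) else 0) fun l => if e l ∈ Ψ then D.P.root (e l) else 0
  let a : Fin N → (RedSub.pow (Red.Ga S) (N + N) ⟶ Red.Ga S) := fun k =>
    if e k ∈ Ψ then powProj (Red.Ga S) (N + N) (Fin.castAdd N k) else gaPt 0
  let b : Fin N → (RedSub.pow (Red.Ga S) (N + N) ⟶ Red.Ga S) := fun k =>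
    if e k ∈ Ψ then powProj (Red.Ga S) (N + N) (Fin.natAdd N k) else gaPt 0
  have hg : ∀ (Z : Over S) (w : Z ⟶ RedSub.pow (Red.Ga S) (N + N)), w ≫ (uProd D e a * uProd D e b) =
      uProd D e (fun k => w ≫ a k) * uProd D e (fun k => w ≫ b k) := fun Z w => by
    rw [MonObj.comp_mul, comp_uProd, comp_uProd]
  have hc : Contr ν (uProd D e a * uProd D e b) 1 := by simpa using (hν a).mul (hν b)
  obtain ⟨q, hq1, hq2⟩ := hco (N + N) χ _ hc fun Z t w w' hw => by
      rw [hg, hg, uProd_scale D e t (fun k => w ≫ a k) (fun k => w' ≫ a k) (fun k => by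
          simp only [a]
          split_ifs with hk
          · simpa [χ, hk] using hw (Fin.castAdd N k)
          · simp [comp_gaPt, gaFn_gaPt]),
        uProd_scale D e t (fun k => w ≫ b k) (fun k => w' ≫ b k) (fun k => by
          simp only [b]
          split_ifs with hk
          · simpa only [χ, Fin.append_right, if_pos hk] using hw (Fin.natAdd N k)
          · simp [comp_gaPt, gaFn_gaPt])]
      group
  have hχ : ∀ j, χ j = 0 ∨ ∃ c ∈ Ψ, χ j = D.P.root c := fun j => by
    refine Fin.addCases (fun l => ?_) (fun l => ?_) j <;>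
    · by_cases hl : e l ∈ Ψ
      · exact Or.inr ⟨e l, hl, by simp only [χ, Fin.append_left, Fin.append_right, if_pos hl]⟩
      · exact Or.inl (by simp only [χ, Fin.append_left, Fin.append_right, if_neg hl])
  refine ⟨fun k => powTuple (Fin.append x y) ≫ q k, fun k hk => ?_, ?_⟩
  · have := supp_coords H Ψ hcl q _ hc χ hχ hq1 hq2 (fun Z w hw => by
      rw [hg]
      have ha : (fun k => w ≫ a k) = fun _ => gaPt 0 := funext fun l => by
        simp only [a]
        split_ifs with hl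
        · exact gaFn_injective (by rw [gaFn_gaPt]; exact hw _ (by simp [χ, hl, D.P.ne_zero]))
        · rw [comp_gaPt, map_zero]
      have hb : (fun k => w ≫ b k) = fun _ => gaPt 0 := funext fun l => by
        simp only [b]
        split_ifs with hl
        · exact gaFn_injective (by
            rw [gaFn_gaPt]
            exact hw _ (by simp only [χ, Fin.append_right, if_pos hl]; exact D.P.ne_zero _))
        · rw [comp_gaPt, map_zero]
      rw [ha, hb, uProd_zero, _root_.one_mul]) k hk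
    simp only [this, comp_gaPt, map_zero]
  · rw [hq1, hg]
    congr 2 <;> funext k
    · simp only [a]
      split_ifs with hk
      · rw [powTuple_proj, Fin.append_left]
      · rw [comp_gaPt, map_zero, hx k hk]
    · simp only [b]
      split_ifs with hk
      · rw [powTuple_proj, Fin.append_right]
      · rw [comp_gaPt, map_zero, hy k hk]

theorem supp_inv (Ψ : Set D.idx) (hcl : IsClosedSet D Ψ) {X : Over S} (x : Fin N → (X ⟶ Red.Ga S))
    (hx : IsSupp e Ψ x) : ∃ z, IsSupp e Ψ z ∧ uProd D e z = (uProd D e x)⁻¹ := by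
  classical
  obtain ⟨-, ν, hν, hco⟩ := H.exists_coords
  let χ : Fin N → D.M := fun l => if e l ∈ Ψ then D.P.root (e l) else 0
  let a : Fin N → (RedSub.pow (Red.Ga S) N ⟶ Red.Ga S) := fun k =>
    if e k ∈ Ψ then powProj (Red.Ga S) N k else gaPt 0
  have hg : ∀ (Z : Over S) (w : Z ⟶ RedSub.pow (Red.Ga S) N),
      w ≫ (uProd D e a)⁻¹ = (uProd D e fun k => w ≫ a k)⁻¹ := fun Z w => by
    rw [GrpObj.comp_inv, comp_uProd]
  have hc : Contr ν (uProd D e a)⁻¹ 1 := by simpa using (hν a).inv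
  obtain ⟨q, hq1, hq2⟩ := hco N χ _ hc fun Z t w w' hw => by
      rw [hg, hg, uProd_scale D e t (fun k => w ≫ a k) (fun k => w' ≫ a k) (fun k => by
          simp only [a]
          split_ifs with hk
          · simpa [χ, hk] using hw k
          · simp [comp_gaPt, gaFn_gaPt])]
      group
  have hχ : ∀ j, χ j = 0 ∨ ∃ c ∈ Ψ, χ j = D.P.root c := fun l => by
    by_cases hl : e l ∈ Ψ
    · exact Or.inr ⟨e l, hl, by simp [χ, hl]⟩
    · exact Or.inl (by simp [χ, hl])
  refine ⟨fun k => powTuple x ≫ q k, fun k hk => ?_, ?_⟩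
  · have := supp_coords H Ψ hcl q _ hc χ hχ hq1 hq2 (fun Z w hw => by
      rw [hg]
      have ha : (fun k => w ≫ a k) = fun _ => gaPt 0 := funext fun l => by
        simp only [a]
        split_ifs with hl
        · exact gaFn_injective (by rw [gaFn_gaPt]; exact hw _ (by simp [χ, hl, D.P.ne_zero]))
        · rw [comp_gaPt, map_zero]
      rw [ha, uProd_zero, inv_one]) k hk
    simp only [this, comp_gaPt, map_zero]
  · rw [hq1, hg]
    congr 2
    funext k
    simp only [a]
    split_ifs with hk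
    · rw [powTuple_proj]
    · rw [comp_gaPt, map_zero, hx k hk]

/-- The points of the product of the root groups of a closed set of positive roots. -/
noncomputable def suppGrp (Ψ : Set D.idx) (hcl : IsClosedSet D Ψ) (X : Over S) : Subgroup (X ⟶ G) where
  carrier := {v | ∃ x, IsSupp e Ψ x ∧ uProd D e x = v}
  mul_mem' := by
    rintro _ _ ⟨x, hx, rfl⟩ ⟨y, hy, rfl⟩
    exact supp_mul H Ψ hcl x y hx hy
  one_mem' := ⟨fun _ => gaPt 0, fun _ _ => rfl, uProd_zero e⟩
  inv_mem' := by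
    rintro _ ⟨x, hx, rfl⟩
    exact supp_inv H Ψ hcl x hx

/-- The points of a tail. -/
noncomputable def tailGrp (i : ℕ) (X : Over S) : Subgroup (X ⟶ G) where
  carrier := {v | ∃ x, IsTail i x ∧ uProd D e x = v}
  mul_mem' := by
    rintro _ _ ⟨x, hx, rfl⟩ ⟨y, hy, rfl⟩
    exact H.tail_mul i x y hx hy
  one_mem' := ⟨fun _ => gaPt 0, fun _ _ => rfl, uProd_zero e⟩
  inv_mem' := by
    rintro _ ⟨x, hx, rfl⟩
    exact H.tail_inv i x hx

/-- The coordinates of a point. -/
noncomputable def coordFn {X : Over S} (k : Fin N) (v : X ⟶ G) : Γ(X.left, ⊤) :=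
  letI := Classical.propDecidable (∃ x : Fin N → (X ⟶ Red.Ga S), uProd D e x = v)
  if h : ∃ x : Fin N → (X ⟶ Red.Ga S), uProd D e x = v then Red.gaFn (h.choose k) else 0

theorem coordFn_uProd {X : Over S} (k : Fin N) (x : Fin N → (X ⟶ Red.Ga S)) :
    coordFn (e := e) k (uProd D e x) = Red.gaFn (x k) := by
  have h : ∃ y : Fin N → (X ⟶ Red.Ga S), uProd D e y = uProd D e x := ⟨x, rfl⟩
  rw [coordFn, dif_pos h, H.uProd_injective h.choose_spec]

theorem coordFn_succ {X : Over S} (i : Fin N) (x : Fin N → (X ⟶ Red.Ga S)) (hx : IsTail i x) :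
    uProd D e x ∈ tailGrp H ((i : ℕ) + 1) X ↔ x i = gaPt 0 := by
  refine ⟨fun ⟨y, hy, he⟩ => ?_, fun h => ⟨x, fun k hk => ?_, rfl⟩⟩
  · rw [← H.uProd_injective he]
    exact hy i (by omega)
  · rcases Nat.lt_succ_iff_lt_or_eq.mp hk with hk | hk
    · exact hx k hk
    · rw [show k = i from Fin.ext hk, h]

/-- The coordinate of a product in a tail. -/
theorem coord_add {X : Over S} (i : Fin N) (x y : Fin N → (X ⟶ Red.Ga S))
    (hx : IsTail i x) (hy : IsTail i y) :
    coordFn (e := e) i (uProd D e x * uProd D e y) = Red.gaFn (x i) + Red.gaFn (y i) := by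
  have hupd : ∀ z : Fin N → (X ⟶ Red.Ga S), IsTail i z →
      uProd D e (Function.update z i (gaPt 0)) ∈ tailGrp H ((i : ℕ) + 1) X := fun z hz =>
    ⟨_, fun k hk => by
      by_cases h : k = i
      · rw [h, Function.update_self]
      · rw [Function.update_of_ne h]
        exact hz k (by have : (k : ℕ) ≠ i := fun hh => h (Fin.ext hh); omega), rfl⟩
  have hm := (D.rootHom (e i)).1
  let A := x i ≫ D.u (e i)
  let B := y i ≫ D.u (e i)
  let R := uProd D e (Function.update x i (gaPt 0))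
  let R' := uProd D e (Function.update y i (gaPt 0))
  have hB : B⁻¹ * R * B ∈ tailGrp H ((i : ℕ) + 1) X := by
    obtain ⟨z, hz, hze⟩ := hupd x hx
    obtain ⟨w, hw, hwe⟩ := H.tail_inv 0 (Function.update (fun _ => gaPt 0) i (y i))
      (fun k hk => absurd hk (Nat.not_lt_zero _))
    rw [uProd_single] at hwe
    obtain ⟨z', hz', hze', -⟩ := H.tail_conj _ w z hz
    exact ⟨z', hz', by rw [hze', hwe, _root_.inv_inv, hze]⟩
  obtain ⟨r, hr, hre⟩ := mul_mem hB (hupd y hy)
  have e1 : uProd D e x * uProd D e y = uProd D e (Function.update r i (x i * y i)) := by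
    rw [uProd_split e i (Function.update r i (x i * y i)) (fun k hk => by
        rw [Function.update_of_ne (fun h => by subst h; omega)]; exact hr k (by omega)),
      Function.update_self, Function.update_idem,
      show Function.update r i (gaPt 0) = r from by
        funext k
        by_cases h : k = i
        · subst h; rw [Function.update_self, hr k (by omega)]
        · rw [Function.update_of_ne h],
      MonObj.mul_comp, hre, uProd_split e i x hx, uProd_split e i y hy]
    simp only [B, R]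
    group
  rw [e1, coordFn_uProd H, Function.update_self, gaFn_mul]

/-- The points of the positive root groups as a filtered group with coordinates. -/
noncomputable def coordFilt (X : Over S) : CoordFilt (X ⟶ G) Γ(X.left, ⊤) N where
  T i := tailGrp H i X
  c k v := coordFn (e := e) k v
  bot := by
    rw [Subgroup.eq_bot_iff_forall]
    rintro _ ⟨x, hx, rfl⟩
    rw [show x = fun _ => gaPt 0 from funext fun k => hx k k.2, uProd_zero]
  anti i := by
    rintro _ ⟨x, hx, rfl⟩
    exact ⟨x, fun k hk => hx k (by omega), rfl⟩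
  mem_succ i := by
    rintro _ ⟨x, hx, rfl⟩
    rw [coordFn_uProd H, coordFn_succ H i x hx]
    exact ⟨fun h => by rw [h, gaFn_gaPt], fun h => gaFn_injective (by rw [h, gaFn_gaPt])⟩
  add i := by
    rintro _ _ ⟨x, hx, rfl⟩ ⟨y, hy, rfl⟩
    rw [coord_add H i x y hx hy, coordFn_uProd H, coordFn_uProd H]
  conj i := by
    rintro _ _ ⟨x, -, rfl⟩ ⟨y, hy, rfl⟩
    obtain ⟨z, hz, he, hk⟩ := H.tail_conj i x y hy
    refine ⟨⟨z, hz, he⟩, ?_⟩
    rw [← he, coordFn_uProd H, coordFn_uProd H, hk i rfl]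

theorem suppGrp_le (Ψ : Set D.idx) (hcl : IsClosedSet D Ψ) (X : Over S) :
    suppGrp H Ψ hcl X ≤ tailGrp H 0 X := by
  rintro _ ⟨x, -, rfl⟩
  exact ⟨x, fun k hk => absurd hk (Nat.not_lt_zero _), rfl⟩

theorem root_mem (k : Fin N) {X : Over S} (c : X ⟶ Red.Ga S) :
    c ≫ D.u (e k) ∈ tailGrp H k X ∧ coordFn (e := e) k (c ≫ D.u (e k)) = Red.gaFn c := by
  rw [← uProd_single]
  refine ⟨⟨_, fun l hl => by rw [Function.update_of_ne (fun h => by subst h; omega)], rfl⟩, ?_⟩
  rw [coordFn_uProd H, Function.update_self]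

theorem root_mem_supp (Ψ : Set D.idx) (hcl : IsClosedSet D Ψ) {a : D.idx} (ha : a ∈ Ψ)
    (hpos : 0 < D.P.root a) {X : Over S} (c : X ⟶ Red.Ga S) :
    c ≫ D.u a ∈ suppGrp H Ψ hcl X := by
  obtain ⟨k, rfl⟩ := (H.range a).mpr hpos
  exact ⟨Function.update (fun _ => gaPt 0) k c,
    fun l hl => by rw [Function.update_of_ne (fun h => hl (by rw [h]; exact ha))], uProd_single e k c⟩

/-- Any list of the roots of a closed set of positive roots parametrises its group bijectively. -/
theorem enum_bijective (Ψ : Set D.idx) (hcl : IsClosedSet D Ψ) (hpos : ∀ a ∈ Ψ, 0 < D.P.root a)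
    {m : ℕ} (e' : Fin m → D.idx) (he' : RedSub.Enumerates Ψ e') (X : Over S) :
    (∀ x x' : Fin m → (X ⟶ Red.Ga S), uProd D e' x = uProd D e' x' → x = x') ∧
    (∀ x : Fin m → (X ⟶ Red.Ga S), uProd D e' x ∈ suppGrp H Ψ hcl X) ∧
    ∀ v ∈ suppGrp H Ψ hcl X, ∃ x : Fin m → (X ⟶ Red.Ga S), uProd D e' x = v := by
  classical
  have hmem : ∀ j, e' j ∈ Ψ := fun j => he'.2 ▸ Set.mem_range_self j
  choose σ hσ using fun j => (H.range (e' j)).mpr (hpos _ (hmem j))
  have hσi : Function.Injective σ := fun i j h => he'.1 (by rw [← hσ i, ← hσ j, h])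
  let g : Fin N → Γ(X.left, ⊤) → (X ⟶ G) := fun j a => gaPt a ≫ D.u (e j)
  have hlp : ∀ x : Fin N → Γ(X.left, ⊤),
      CoordFilt.lprod g (List.ofFn σ) x = uProd D e' fun j => gaPt (x (σ j)) := fun x => by
    rw [CoordFilt.lprod, List.map_ofFn, uProd]
    simp only [Function.comp_def, g, hσ]
  have hup : ∀ x : Fin m → (X ⟶ Red.Ga S), uProd D e' x =
      CoordFilt.lprod g (List.ofFn σ) (Function.extend σ (fun j => Red.gaFn (x j)) 0) := fun x => by
    rw [hlp]
    simp only [hσi.extend_apply, gaPt_gaFn]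
  obtain ⟨hinj, hsurj⟩ := CoordFilt.lprod_bijective (coordFilt H X) (suppGrp H Ψ hcl X)
    {j | e j ∈ Ψ} (by
      rintro i _ ⟨x, hx, rfl⟩ - hi
      show coordFn (e := e) i _ = 0
      rw [coordFn_uProd H, hx i hi, gaFn_gaPt])
    (suppGrp_le H Ψ hcl X) (g := g) (fun j hj a => by
      obtain ⟨h1, h2⟩ := root_mem H j (gaPt (X := X) a)
      exact ⟨root_mem_supp H Ψ hcl hj (H.pos j) _, h1, h2.trans (gaFn_gaPt a)⟩)
    (L := List.ofFn σ) (List.nodup_ofFn.mpr hσi) (fun j => by
      rw [List.mem_ofFn', Set.mem_ofPred_eq]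
      refine ⟨?_, fun hj => ?_⟩
      · rintro ⟨l, rfl⟩; rw [hσ]; exact hmem l
      · obtain ⟨l, hl⟩ : e j ∈ Set.range e' := he'.2.symm ▸ hj
        exact ⟨l, H.inj (by rw [hσ, hl])⟩)
  refine ⟨fun x x' h => funext fun j => gaFn_injective ?_, fun x => ?_, fun v hv => ?_⟩
  · rw [hup, hup] at h
    simpa only [hσi.extend_apply] using hinj _ _ h (σ j) ((List.mem_ofFn' _ _).mpr ⟨j, rfl⟩)
  · refine list_prod_mem fun y hy => ?_
    obtain ⟨j, rfl⟩ := (List.mem_ofFn' _ _).mp hy
    exact root_mem_supp H Ψ hcl (hmem j) (hpos _ (hmem j)) _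
  · obtain ⟨x, hx⟩ := hsurj v hv
    exact ⟨_, (hlp x).symm.trans hx⟩

end Groth.Agent.RedPts26
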