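import Groth.Agent.RedPts82.CommTools
import Mathlib.AlgebraicGeometry.Morphisms.FlatDescent
import Mathlib.Algebra.Group.Subgroup.Basic
import Mathlib.Tactic.Group
import Mathlib.Tactic.LinearCombination

/-!
Separating the factors of a product of root points by scaling, and factorisation through a
monomorphism after a flat cover.
-/

universe u v w

namespace Groth.Agent.RedPts26

section Algebra

variable {Γ : Type v} [Group Γ] {R : Type w} [CommRing R]

/-- If a subgroup contains the products `A₁(xy) A₂(x²y) A₃(x³y) A₄(x³y²)`, the commutator of `A₃`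
with one of its elements fills `A₄`, and the factors commute modulo the central `A₄`, then it
contains every factor, provided that some `x` has `x(x-1)(x+1)` invertible. -/
theorem factors_mem (K : Subgroup Γ) (A₁ A₂ A₃ A₄ : R → Γ)
    (h1 : ∀ a b, A₁ (a + b) = A₁ a * A₁ b) (h2 : ∀ a b, A₂ (a + b) = A₂ a * A₂ b)
    (h3 : ∀ a b, A₃ (a + b) = A₃ a * A₃ b)
    (h14 : ∀ a b, Commute (A₁ a) (A₄ b)) (h24 : ∀ a b, Commute (A₂ a) (A₄ b))
    (h34 : ∀ a b, Commute (A₃ a) (A₄ b))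
    (h13 : ∀ a b, Commute (A₁ a) (A₃ b)) (h23 : ∀ a b, Commute (A₂ a) (A₃ b))
    (h12 : ∀ a b, ∃ c, A₁ a * A₂ b * (A₁ a)⁻¹ = A₂ b * A₄ c)
    (g : Γ) (hg : g ∈ K) (hg1 : ∀ a, Commute g (A₁ a)) (hg2 : ∀ a, Commute g (A₂ a))
    (hg4 : ∀ a, Commute g (A₄ a)) (k : R) (hk : IsUnit k)
    (hg3 : ∀ a, g * A₃ a * g⁻¹ = A₃ a * A₄ (k * a))
    (hf : ∀ x y, A₁ (x * y) * A₂ (x ^ 2 * y) * A₃ (x ^ 3 * y) * A₄ (x ^ 3 * y ^ 2) ∈ K)
    (x : R) (hx : IsUnit (x * (x - 1) * (x + 1))) :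
    (∀ r, A₁ r ∈ K) ∧ (∀ r, A₂ r ∈ K) ∧ (∀ r, A₃ r ∈ K) ∧ ∀ r, A₄ r ∈ K := by
  have hA4 : ∀ r, A₄ r ∈ K := by
    intro r
    obtain ⟨k', rfl⟩ := hk
    let y := ((k'⁻¹ : Rˣ) : R) * r
    have hy : (k' : R) * y = r := by simp [y]
    have hm := hf 1 y
    simp only [one_mul, one_pow] at hm
    have hc := K.mul_mem (K.mul_mem (K.mul_mem hg hm) (K.inv_mem hg)) (K.inv_mem hm)
    have e : g * (A₁ y * A₂ y * A₃ y * A₄ (y ^ 2)) * g⁻¹ * (A₁ y * A₂ y * A₃ y * A₄ (y ^ 2))⁻¹ =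
        A₄ r := by
      have e1 : g * (A₁ y * A₂ y * A₃ y * A₄ (y ^ 2)) * g⁻¹ =
          A₁ y * A₂ y * A₃ y * A₄ r * A₄ (y ^ 2) := by
        calc _ = (g * A₁ y * g⁻¹) * (g * A₂ y * g⁻¹) * (g * A₃ y * g⁻¹) * (g * A₄ (y ^ 2) * g⁻¹) := by group
          _ = _ := by
            rw [(hg1 y).mul_inv_cancel, (hg2 y).mul_inv_cancel, (hg4 (y ^ 2)).mul_inv_cancel, hg3, hy]
            group
      rw [e1]
      have c1 := h14 y r
      have c2 := h24 y r
      have c3 := h34 y r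
      calc _ = A₁ y * A₂ y * (A₃ y * A₄ r * (A₃ y)⁻¹) * (A₂ y)⁻¹ * (A₁ y)⁻¹ := by group
        _ = A₁ y * (A₂ y * A₄ r * (A₂ y)⁻¹) * (A₁ y)⁻¹ := by rw [c3.mul_inv_cancel]; group
        _ = A₄ r := by rw [c2.mul_inv_cancel, c1.mul_inv_cancel]
    rw [← e]; exact hc
  have hQ : ∀ x y, A₁ (x * y) * A₂ (x ^ 2 * y) * A₃ (x ^ 3 * y) ∈ K := fun x y =>
    (K.mul_mem_cancel_right (hA4 _)).mp (hf x y)
  have inv1 : ∀ a, (A₁ a)⁻¹ = A₁ (-a) := fun a => by
    have h0 : A₁ 0 = 1 := by have := h1 0 0; rw [add_zero] at this; exact left_eq_mul.mp this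
    exact inv_eq_of_mul_eq_one_right (by rw [← h1, add_neg_cancel, h0])
  have inv2 : ∀ a, (A₂ a)⁻¹ = A₂ (-a) := fun a => by
    have h0 : A₂ 0 = 1 := by have := h2 0 0; rw [add_zero] at this; exact left_eq_mul.mp this
    exact inv_eq_of_mul_eq_one_right (by rw [← h2, add_neg_cancel, h0])
  have inv3 : ∀ a, (A₃ a)⁻¹ = A₃ (-a) := fun a => by
    have h0 : A₃ 0 = 1 := by have := h3 0 0; rw [add_zero] at this; exact left_eq_mul.mp this
    exact inv_eq_of_mul_eq_one_right (by rw [← h3, add_neg_cancel, h0])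
  -- eliminating the first factor
  have hH : ∀ x y, A₂ ((x ^ 2 - x) * y) * A₃ ((x ^ 3 - x) * y) ∈ K := by
    intro x y
    have hm := K.mul_mem (hQ x y) (K.inv_mem (hQ 1 (x * y)))
    simp only [one_mul, one_pow] at hm
    obtain ⟨c, hc⟩ := h12 (x * y) ((x ^ 2 - x) * y)
    have e : A₁ (x * y) * A₂ (x ^ 2 * y) * A₃ (x ^ 3 * y) * (A₁ (x * y) * A₂ (x * y) * A₃ (x * y))⁻¹ =
        A₂ ((x ^ 2 - x) * y) * A₄ c * A₃ ((x ^ 3 - x) * y) := by
      calc _ = A₁ (x * y) * (A₂ (x ^ 2 * y) * (A₃ (x ^ 3 * y) * (A₃ (x * y))⁻¹) * (A₂ (x * y))⁻¹) *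
            (A₁ (x * y))⁻¹ := by group
        _ = A₁ (x * y) * (A₂ (x ^ 2 * y) * (A₂ (x * y))⁻¹ * A₃ ((x ^ 3 - x) * y)) * (A₁ (x * y))⁻¹ := by
          rw [inv3, ← h3, show x ^ 3 * y + -(x * y) = (x ^ 3 - x) * y by ring, inv2,
            mul_assoc (A₂ (x ^ 2 * y)), ← (h23 (-(x * y)) ((x ^ 3 - x) * y)).eq, ← mul_assoc (A₂ (x ^ 2 * y))]
        _ = (A₁ (x * y) * A₂ ((x ^ 2 - x) * y) * (A₁ (x * y))⁻¹) *
              (A₁ (x * y) * A₃ ((x ^ 3 - x) * y) * (A₁ (x * y))⁻¹) := by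
          rw [inv2, ← h2, show x ^ 2 * y + -(x * y) = (x ^ 2 - x) * y by ring]
          group
        _ = _ := by rw [hc, (h13 _ _).mul_inv_cancel]
    rw [e, mul_assoc, ← (h34 ((x ^ 3 - x) * y) c).eq, ← mul_assoc] at hm
    exact (K.mul_mem_cancel_right (hA4 c)).mp hm
  have hA3 : ∀ r, A₃ r ∈ K := by
    intro r
    let x' := x + 1
    have hu : IsUnit (-((x ^ 2 - x) * (x' ^ 2 - x'))) := by
      have hx' := isUnit_of_mul_isUnit_left (isUnit_of_mul_isUnit_left hx)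
      rw [show -((x ^ 2 - x) * (x' ^ 2 - x')) = -(x * (x * (x - 1) * (x + 1))) by ring]
      exact (hx'.mul hx).neg
    obtain ⟨d, hd⟩ := hu
    let y := ((d⁻¹ : Rˣ) : R) * r
    have hdy : (d : R) * y = r := by simp [y]
    have hm := K.mul_mem (hH x ((x' ^ 2 - x') * y)) (K.inv_mem (hH x' ((x ^ 2 - x) * y)))
    have e : A₂ ((x ^ 2 - x) * ((x' ^ 2 - x') * y)) * A₃ ((x ^ 3 - x) * ((x' ^ 2 - x') * y)) *
        (A₂ ((x' ^ 2 - x') * ((x ^ 2 - x) * y)) * A₃ ((x' ^ 3 - x') * ((x ^ 2 - x) * y)))⁻¹ = A₃ r := by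
      rw [show (x' ^ 2 - x') * ((x ^ 2 - x) * y) = (x ^ 2 - x) * ((x' ^ 2 - x') * y) by ring]
      calc _ = A₂ ((x ^ 2 - x) * ((x' ^ 2 - x') * y)) * (A₃ ((x ^ 3 - x) * ((x' ^ 2 - x') * y)) *
            (A₃ ((x' ^ 3 - x') * ((x ^ 2 - x) * y)))⁻¹) * (A₂ ((x ^ 2 - x) * ((x' ^ 2 - x') * y)))⁻¹ := by
            group
        _ = _ := by
          rw [inv3, ← h3, (h23 _ _).mul_inv_cancel]
          congr 1
          rw [← hdy, hd]
          ring
    rw [← e]; exact hm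
  have hA2 : ∀ r, A₂ r ∈ K := by
    intro r
    have hx' : IsUnit (x ^ 2 - x) := by
      rw [show x ^ 2 - x = x * (x - 1) by ring]
      exact isUnit_of_mul_isUnit_left hx
    obtain ⟨d, hd⟩ := hx'
    have hm := (K.mul_mem_cancel_right (hA3 _)).mp (hH x (((d⁻¹ : Rˣ) : R) * r))
    rw [← hd, Units.mul_inv_cancel_left] at hm
    exact hm
  refine ⟨fun r => ?_, hA2, hA3, hA4⟩
  have hm := (K.mul_mem_cancel_right (hA2 _)).mp ((K.mul_mem_cancel_right (hA3 _)).mp (hQ 1 r))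
  rwa [one_mul] at hm

end Algebra

section Descent

open CategoryTheory MonoidalCategory CartesianMonoidalCategory MonObj GrpObj AlgebraicGeometry
open CategoryTheory.Limits

variable {S : Scheme.{u}} {H G : Over S}

/-- Factorisation through a monomorphism descends along flat surjective quasi-compact covers. -/
theorem exists_factor_of_cover (h : H ⟶ G) [Mono h] {X X' : Over S} (g : X ⟶ G) (k : X' ⟶ X)
    [Flat k.left] [Surjective k.left] [QuasiCompact k.left] (w : X' ⟶ H) (hw : w ≫ h = k ≫ g) :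
    ∃ v : X ⟶ H, v ≫ h = g := by
  have : Mono h.left := (Over.forget S).map_mono h
  have hsq : k.left ≫ g.left = w.left ≫ h.left := by
    rw [← Over.comp_left, ← Over.comp_left, hw]
  let p := pullback.fst g.left h.left
  have : IsSplitEpi (pullback.fst k.left p) :=
    ⟨⟨{ section_ := pullback.lift (𝟙 _) (pullback.lift k.left w.left hsq) (by simp only [p]; rw [pullback.lift_fst, Category.id_comp]), id := pullback.lift_fst _ _ _ }⟩⟩
  have : IsIso (pullback.fst k.left p) := isIso_of_mono_of_isSplitEpi _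
  have hiso : MorphismProperty.isomorphisms Scheme p :=
    MorphismProperty.of_pullback_fst_of_descendsAlong (P := MorphismProperty.isomorphisms Scheme)
      (Q := @Surjective ⊓ @Flat ⊓ @QuasiCompact) (f := k.left) (g := p)
      ⟨⟨inferInstance, inferInstance⟩, inferInstance⟩ (inferInstanceAs (IsIso _))
  have : IsIso p := hiso
  have hv : (inv p ≫ pullback.snd g.left h.left) ≫ h.left = g.left := by
    rw [Category.assoc, ← pullback.condition, IsIso.inv_hom_id_assoc]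
  refine ⟨Over.homMk (inv p ≫ pullback.snd g.left h.left) ?_, Over.OverMorphism.ext hv⟩
  rw [← Over.w h, ← Category.assoc, hv, Over.w g]

/-- Factorisation through a monomorphism is local on the source. -/
theorem exists_factor_of_affine (h : H ⟶ G) [Mono h] {X : Over S} (g : X ⟶ G)
    (hY : ∀ (Y : Over S), IsAffine Y.left → ∀ k : Y ⟶ X, ∃ w : Y ⟶ H, w ≫ h = k ≫ g) :
    ∃ v : X ⟶ H, v ≫ h = g := by
  let 𝒰 := X.left.affineCover
  choose w hw using fun i => hY (Over.mk (𝒰.f i ≫ X.hom)) (inferInstanceAs (IsAffine (𝒰.X i)))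
    (Over.homMk (𝒰.f i) rfl)
  have hwl : ∀ i, (w i).left ≫ h.left = 𝒰.f i ≫ g.left := fun i => congrArg CommaMorphism.left (hw i)
  have : Mono h.left := (Over.forget S).map_mono h
  let φ := 𝒰.glueMorphisms (fun i => (w i).left) fun i j => by
    rw [← cancel_mono h.left, Category.assoc, Category.assoc, hwl, hwl, pullback.condition_assoc]
  have hφ : φ ≫ h.left = g.left := 𝒰.hom_ext _ _ fun i => by
    rw [← Category.assoc, Scheme.Cover.ι_glueMorphisms]
    exact hwl i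
  refine ⟨Over.homMk φ ?_, Over.OverMorphism.ext hφ⟩
  rw [← Over.w h, ← Category.assoc, hφ, Over.w g]

end Descent

end Groth.Agent.RedPts26
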